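import Mathlib
import Cfsg.Agent.Lib.Lead.BrLeo8

/-!
helper6: S3701, part 1: the Gram matrix of the multiplicity vectors for a finite abelian group `A`
with a finite family of automorphisms `β i` (generalising lead's `gram_dual`, which treats the powers
of one fixed-point-free automorphism).
-/

set_option autoImplicit false

namespace Cfsg.Agent.Lib.Helper6.S3701

open Cfsg Cfsg.Agent.CharLib
open scoped ComplexConjugate

universe u v w

section gram

variable {A : Type u} [Group A] [Fintype A]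

theorem comp_ne_one (β : A ≃* A) (ψ : A →* ℂˣ) (hψ : ψ ≠ 1) :
    ψ.comp β.toMonoidHom ≠ 1 := by
  intro h
  apply hψ
  apply MonoidHom.ext
  intro y
  have := congrArg (fun f : A →* ℂˣ => f (β.symm y)) h
  simpa using this

variable {B : Type v} [Fintype B] {ι : Type w} [Fintype ι]

open Classical in
/-- The Gram matrix of the coefficient vectors is `|ι| + #{i | ψ' ∘ β i = ψ}`. -/
theorem gram_family (β : ι → A ≃* A) (X : B → A → ℂ)
    (c : B → (A →* ℂˣ) → ℤ)
    (hc : ∀ χ ψ, (c χ ψ : ℂ) = multP (X χ) ψ - multP (X χ) 1)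
    (horth : ∀ y y' : A, y ≠ 1 → y' ≠ 1 → ∑ χ : B, X χ y * conj (X χ y') =
      (Fintype.card A : ℂ) * ∑ i : ι, if y' = β i y then 1 else 0)
    (ψ ψ' : A →* ℂˣ) (hψ : ψ ≠ 1) (hψ' : ψ' ≠ 1) :
    ((∑ χ : B, c χ ψ * c χ ψ' : ℤ) : ℂ) =
      (Fintype.card ι : ℂ) +
        ((Finset.univ.filter (fun i : ι => ψ'.comp (β i).toMonoidHom = ψ)).card : ℂ) := by
  have hN : (Fintype.card A : ℂ) ≠ 0 := by
    exact_mod_cast Fintype.card_ne_zero
  set N : ℂ := (Fintype.card A : ℂ) with hNdef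
  have f1 : ∀ χ : B, (c χ ψ : ℂ) = N⁻¹ * ∑ y : A, X χ y * (conj ((ψ y : ℂˣ) : ℂ) - 1) := by
    intro χ; rw [hc, multP_sub_one]
  have f2 : ∀ χ : B, (c χ ψ' : ℂ) =
      N⁻¹ * ∑ y : A, conj (X χ y) * (((ψ' y : ℂˣ) : ℂ) - 1) := by
    intro χ
    have h1 : (c χ ψ' : ℂ) = conj (c χ ψ' : ℂ) := by rw [map_intCast]
    rw [h1, hc, multP_sub_one, map_mul, map_inv₀, map_sum, Complex.conj_natCast]
    congr 1
    apply Finset.sum_congr rfl
    intro y _
    rw [map_mul, map_sub, Complex.conj_conj, map_one]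
  have key : ∀ y y' : A,
      (conj ((ψ y : ℂˣ) : ℂ) - 1) * (((ψ' y' : ℂˣ) : ℂ) - 1) * ∑ χ : B, X χ y * conj (X χ y') =
      (conj ((ψ y : ℂˣ) : ℂ) - 1) * (((ψ' y' : ℂˣ) : ℂ) - 1) *
        (N * ∑ i : ι, if y' = β i y then 1 else 0) := by
    intro y y'
    by_cases hy : y = 1
    · rw [hy]; simp
    by_cases hy' : y' = 1
    · rw [hy']; simp
    rw [horth y y' hy hy']
  push_cast
  calc ∑ χ : B, (c χ ψ : ℂ) * (c χ ψ' : ℂ)
      = ∑ χ : B, (N⁻¹ * ∑ y : A, X χ y * (conj ((ψ y : ℂˣ) : ℂ) - 1)) *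
          (N⁻¹ * ∑ y' : A, conj (X χ y') * (((ψ' y' : ℂˣ) : ℂ) - 1)) := by
        apply Finset.sum_congr rfl
        intro χ _
        rw [f1, f2]
    _ = N⁻¹ * N⁻¹ * ∑ y : A, ∑ y' : A, (conj ((ψ y : ℂˣ) : ℂ) - 1) *
          (((ψ' y' : ℂˣ) : ℂ) - 1) * ∑ χ : B, X χ y * conj (X χ y') := by
        have e1 : ∀ χ : B, (N⁻¹ * ∑ y : A, X χ y * (conj ((ψ y : ℂˣ) : ℂ) - 1)) *
            (N⁻¹ * ∑ y' : A, conj (X χ y') * (((ψ' y' : ℂˣ) : ℂ) - 1)) =
            N⁻¹ * N⁻¹ * ∑ y : A, ∑ y' : A, (conj ((ψ y : ℂˣ) : ℂ) - 1) *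
              (((ψ' y' : ℂˣ) : ℂ) - 1) * (X χ y * conj (X χ y')) := by
          intro χ
          rw [mul_mul_mul_comm, Finset.sum_mul_sum]
          congr 1
          apply Finset.sum_congr rfl
          intro y _
          apply Finset.sum_congr rfl
          intro y' _
          ring
        rw [Finset.sum_congr rfl (fun χ _ => e1 χ), ← Finset.mul_sum]
        congr 1
        rw [Finset.sum_comm]
        apply Finset.sum_congr rfl
        intro y _
        rw [Finset.sum_comm]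
        apply Finset.sum_congr rfl
        intro y' _
        rw [Finset.mul_sum]
    _ = N⁻¹ * N⁻¹ * ∑ y : A, ∑ y' : A, (conj ((ψ y : ℂˣ) : ℂ) - 1) *
          (((ψ' y' : ℂˣ) : ℂ) - 1) *
          (N * ∑ i : ι, if y' = β i y then 1 else 0) := by
        congr 1
        apply Finset.sum_congr rfl
        intro y _
        apply Finset.sum_congr rfl
        intro y' _
        exact key y y'
    _ = N⁻¹ * ∑ i : ι, ∑ y : A, (conj ((ψ y : ℂˣ) : ℂ) - 1) *
          (((ψ'.comp (β i).toMonoidHom y : ℂˣ) : ℂ) - 1) := by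
        have e2 : ∀ y : A, ∑ y' : A, (conj ((ψ y : ℂˣ) : ℂ) - 1) * (((ψ' y' : ℂˣ) : ℂ) - 1) *
            (N * ∑ i : ι, if y' = β i y then 1 else 0) =
            N * ∑ i : ι, (conj ((ψ y : ℂˣ) : ℂ) - 1) *
              (((ψ'.comp (β i).toMonoidHom y : ℂˣ) : ℂ) - 1) := by
          intro y
          simp_rw [Finset.mul_sum]
          rw [Finset.sum_comm]
          apply Finset.sum_congr rfl
          intro i _
          simp_rw [mul_ite, mul_one, mul_zero]
          rw [Finset.sum_ite_eq' Finset.univ ((β i) y)]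
          simp only [Finset.mem_univ, if_true, MonoidHom.comp_apply, MulEquiv.coe_toMonoidHom]
          ring
        rw [Finset.sum_congr rfl (fun y _ => e2 y), ← Finset.mul_sum, Finset.sum_comm]
        field_simp
    _ = N⁻¹ * ∑ i : ι, N * ((if ψ'.comp (β i).toMonoidHom = ψ then 1 else 0) + 1) := by
        congr 1
        apply Finset.sum_congr rfl
        intro i _
        exact sum_conj_sub_one_mul ψ (ψ'.comp (β i).toMonoidHom) hψ (comp_ne_one (β i) ψ' hψ')
    _ = (Fintype.card ι : ℂ) +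
        ((Finset.univ.filter (fun i : ι => ψ'.comp (β i).toMonoidHom = ψ)).card : ℂ) := by
        rw [← Finset.mul_sum, ← mul_assoc, inv_mul_cancel₀ hN, one_mul, Finset.sum_add_distrib,
          Finset.sum_const, Finset.card_univ, nsmul_eq_mul, mul_one, Finset.sum_boole]
        ring

end gram

end Cfsg.Agent.Lib.Helper6.S3701

namespace Cfsg.Agent.Lib.Helper6.S3701

open Cfsg Cfsg.Agent.CharLib
open scoped ComplexConjugate

universe u v

section coeff

variable {A : Type u} [Group A] [Fintype A] {B : Type v} [Fintype B]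

/-- Pairing the coefficient vector of `ψ` with an arbitrary vector `Z`. -/
theorem sum_coeff_mul (X : B → A → ℂ) (Z : B → ℂ) (ψ : A →* ℂˣ) :
    ∑ χ : B, (multP (X χ) ψ - multP (X χ) 1) * Z χ =
      (Fintype.card A : ℂ)⁻¹ *
        ∑ y : A, (conj ((ψ y : ℂˣ) : ℂ) - 1) * ∑ χ : B, Z χ * X χ y := by
  simp_rw [multP_sub_one]
  have e1 : ∀ χ : B, (Fintype.card A : ℂ)⁻¹ *
      (∑ y : A, X χ y * (conj ((ψ y : ℂˣ) : ℂ) - 1)) * Z χ =
      (Fintype.card A : ℂ)⁻¹ * ∑ y : A, (conj ((ψ y : ℂˣ) : ℂ) - 1) * (Z χ * X χ y) := by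
    intro χ
    rw [mul_assoc, Finset.sum_mul]
    congr 1
    apply Finset.sum_congr rfl
    intro y _
    ring
  rw [Finset.sum_congr rfl (fun χ _ => e1 χ), ← Finset.mul_sum, Finset.sum_comm]
  congr 1
  apply Finset.sum_congr rfl
  intro y _
  rw [Finset.mul_sum]

end coeff

end Cfsg.Agent.Lib.Helper6.S3701
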