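import Mathlib
import Cfsg.Agent.Lib.Lead.BrLeo9

/-!
helper6: S3701, part 2: the concrete model `M = (ZMod 3)^3`, its four sign changes, and its dual
group: the characters `psi ζ a`, `a : M`, of `Multiplicative M`.
-/

set_option autoImplicit false

namespace Cfsg.Agent.Lib.Helper6.S3701

open Cfsg Cfsg.Agent.CharLib
open scoped ComplexConjugate

/-- the model of the Sylow 3-subgroup -/
abbrev M3 : Type := ZMod 3 × ZMod 3 × ZMod 3

/-- the multiplicative version of the model -/
abbrev A3 : Type := Multiplicative M3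

/-- the signs of the four elements of the complement -/
def sg : Fin 4 → M3 := ![(1, 1, 1), (2, 2, 1), (2, 1, 2), (1, 2, 2)]

/-- the four sign changes -/
def sig (i : Fin 4) (m : M3) : M3 := ((sg i).1 * m.1, (sg i).2.1 * m.2.1, (sg i).2.2 * m.2.2)

theorem sig_add (i : Fin 4) (m m' : M3) : sig i (m + m') = sig i m + sig i m' := by
  unfold sig
  ext <;> simp [mul_add]

theorem sig_sig : ∀ (i : Fin 4) (m : M3), sig i (sig i m) = m := by decide

theorem sig_zero_idx : ∀ m : M3, sig 0 m = m := by decide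

/-- the pairing of the model with itself -/
def pair (a m : M3) : ZMod 3 := a.1 * m.1 + a.2.1 * m.2.1 + a.2.2 * m.2.2

theorem pair_add (a m m' : M3) : pair a (m + m') = pair a m + pair a m' := by
  unfold pair
  simp only [Prod.fst_add, Prod.snd_add]
  ring

theorem pair_sig (i : Fin 4) (a m : M3) : pair a (sig i m) = pair (sig i a) m := by
  unfold pair sig
  simp only
  ring

/-- the sign changes as automorphisms of `A3` -/
def bet (i : Fin 4) : A3 ≃* A3 where
  toFun y := Multiplicative.ofAdd (sig i (Multiplicative.toAdd y))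
  invFun y := Multiplicative.ofAdd (sig i (Multiplicative.toAdd y))
  left_inv y := by simp [sig_sig]
  right_inv y := by simp [sig_sig]
  map_mul' y y' := by
    simp only [toAdd_mul, sig_add, ofAdd_add]

theorem bet_apply (i : Fin 4) (y : A3) :
    bet i y = Multiplicative.ofAdd (sig i (Multiplicative.toAdd y)) := rfl

section psi

variable (ζ : ℂˣ)

theorem pow_val_add (h3 : ζ ^ 3 = 1) (u v : ZMod 3) :
    ζ ^ (u + v).val = ζ ^ u.val * ζ ^ v.val := by
  rw [ZMod.val_add, ← pow_add, ← pow_eq_pow_mod _ h3]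

/-- the character of `A3` attached to `a : M3` -/
def psi (h3 : ζ ^ 3 = 1) (a : M3) : A3 →* ℂˣ where
  toFun y := ζ ^ (pair a (Multiplicative.toAdd y)).val
  map_one' := by simp [pair]
  map_mul' y y' := by
    rw [toAdd_mul, pair_add, pow_val_add ζ h3]

theorem psi_apply (h3 : ζ ^ 3 = 1) (a : M3) (y : A3) :
    psi ζ h3 a y = ζ ^ (pair a (Multiplicative.toAdd y)).val := rfl

theorem psi_zero (h3 : ζ ^ 3 = 1) : psi ζ h3 0 = 1 := by
  apply MonoidHom.ext
  intro y
  simp [psi_apply, pair]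

theorem psi_comp_bet (h3 : ζ ^ 3 = 1) (a : M3) (i : Fin 4) :
    (psi ζ h3 a).comp (bet i).toMonoidHom = psi ζ h3 (sig i a) := by
  apply MonoidHom.ext
  intro y
  simp only [MonoidHom.comp_apply, MulEquiv.coe_toMonoidHom, psi_apply, bet_apply, toAdd_ofAdd,
    pair_sig]

theorem pow_val_injective (h3 : ζ ^ 3 = 1) (h1 : ζ ≠ 1) :
    ∀ u v : ZMod 3, ζ ^ u.val = ζ ^ v.val → u = v := by
  have h2 : ζ ^ 2 ≠ 1 := by
    intro h
    apply h1
    have e : ζ ^ 3 = ζ ^ 2 * ζ := pow_succ ζ 2
    rw [h3, h, one_mul] at e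
    exact e.symm
  have h12 : ζ ^ 2 ≠ ζ := by
    intro h
    apply h1
    have : ζ * ζ = ζ * 1 := by rw [← pow_two, h, mul_one]
    exact mul_left_cancel this
  have hv : ∀ u : ZMod 3, u.val = 0 ∨ u.val = 1 ∨ u.val = 2 := by
    intro u
    have := ZMod.val_lt u
    omega
  intro u v h
  apply ZMod.val_injective 3
  rcases hv u with hu | hu | hu <;> rcases hv v with hv' | hv' | hv' <;> rw [hu, hv'] at h ⊢ <;>
    simp only [pow_zero, pow_one] at h
  · exact absurd h.symm h1
  · exact absurd h.symm h2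
  · exact absurd h h1
  · exact absurd h.symm h12
  · exact absurd h h2
  · exact absurd h h12

theorem pair_basis (a : M3) : pair a (1, 0, 0) = a.1 ∧ pair a (0, 1, 0) = a.2.1 ∧
    pair a (0, 0, 1) = a.2.2 := by
  unfold pair
  simp

theorem psi_injective (h3 : ζ ^ 3 = 1) (h1 : ζ ≠ 1) : Function.Injective (psi ζ h3) := by
  intro a a' h
  have key : ∀ m : M3, pair a m = pair a' m := by
    intro m
    apply pow_val_injective ζ h3 h1
    have := congrArg (fun f : A3 →* ℂˣ => f (Multiplicative.ofAdd m)) h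
    simpa [psi_apply] using this
  have k1 := key (1, 0, 0)
  have k2 := key (0, 1, 0)
  have k3 := key (0, 0, 1)
  rw [(pair_basis a).1, (pair_basis a').1] at k1
  rw [(pair_basis a).2.1, (pair_basis a').2.1] at k2
  rw [(pair_basis a).2.2, (pair_basis a').2.2] at k3
  exact Prod.ext k1 (Prod.ext k2 k3)

theorem a3_comm : ∀ a b : A3, a * b = b * a := fun a b => mul_comm a b

/-- the characters `psi ζ a` exhaust the dual group -/
noncomputable def psiEquiv [Fintype (A3 →* ℂˣ)] (h3 : ζ ^ 3 = 1) (h1 : ζ ≠ 1) :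
    M3 ≃ (A3 →* ℂˣ) :=
  Equiv.ofBijective (psi ζ h3) (by
    rw [Fintype.bijective_iff_injective_and_card]
    refine ⟨psi_injective ζ h3 h1, ?_⟩
    rw [card_dual a3_comm]
    rfl)

theorem psiEquiv_apply [Fintype (A3 →* ℂˣ)] (h3 : ζ ^ 3 = 1) (h1 : ζ ≠ 1) (a : M3) :
    psiEquiv ζ h3 h1 a = psi ζ h3 a := rfl

theorem psi_ne_one (h3 : ζ ^ 3 = 1) (h1 : ζ ≠ 1) (a : M3) (ha : a ≠ 0) : psi ζ h3 a ≠ 1 := by
  intro h
  apply ha
  apply psi_injective ζ h3 h1
  rw [h, psi_zero]

end psi

end Cfsg.Agent.Lib.Helper6.S3701
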