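import Mathlib
import Cfsg.Agent.Lib.Lead.BrLeo7
import Cfsg.Agent.Lib.Helper6.S3701.Dual3

/-!
helper6: S3701, part 3: the lattice argument. Integer vectors `v a`, `a ∈ M3 ∖ 0`, with Gram matrix
`4 + #{i | sig i a' = a}`, orthogonal to a positive vector, contain five "exceptional" coordinates
`E j` (one for each regular orbit) on which all `v a` are known.
-/

set_option autoImplicit false

namespace Cfsg.Agent.Lib.Helper6.S3701

open Cfsg Cfsg.Agent.CharLib

universe u

/-- representatives of the five regular orbits -/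
def rep : Fin 5 → M3 := ![(1, 1, 0), (1, 0, 1), (0, 1, 1), (1, 1, 1), (1, 1, 2)]

/-- trivial stabilizer under the four sign changes -/
def reg (a : M3) : Prop := ∀ i : Fin 4, sig i a = a → i = 0

instance : DecidablePred reg := fun a => by unfold reg; infer_instance

theorem reg_rep : ∀ j, reg (rep j) := by decide

theorem reg_ne_zero : ∀ a : M3, reg a → a ≠ 0 := by decide

theorem card_filter_reg : ∀ p q : M3, reg q →
    (Finset.univ.filter (fun i : Fin 4 => sig i q = p)).card =
      if (∃ i, sig i q = p) then 1 else 0 := by decide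

theorem sig_comp : ∀ i j : Fin 4, ∃ m : Fin 4, ∀ r : M3, sig i (sig j r) = sig m r := by decide

theorem rep_unrel : ∀ j j' : Fin 5, (∃ i, sig i (rep j') = rep j) → j = j' := by decide

theorem nonreg_facts : ∀ a : M3, a ≠ 0 → ¬ reg a →
    (Finset.univ.filter (fun i : Fin 4 => sig i a = a)).card = 2 ∧
    ∀ j : Fin 5, (Finset.univ.filter (fun i : Fin 4 => sig i (rep j) = a)).card = 0 ∧
      ¬ ∃ i, sig i a = rep j := by decide

section sums

variable {B : Type u} [Fintype B] [DecidableEq B]

theorem sum_mul_rep (u w : B → ℤ) (δ : ℤ) (b : B) :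
    ∑ χ, u χ * (w χ + if χ = b then δ else 0) = ∑ χ, u χ * w χ + δ * u b := by
  simp_rw [mul_add, Finset.sum_add_distrib, mul_ite, mul_zero]
  rw [Finset.sum_ite_eq' Finset.univ b]
  simp [mul_comm]

theorem sum_rep_mul_rep (w : B → ℤ) (δ : ℤ) (a b : B) :
    ∑ χ, (w χ + if χ = a then δ else 0) * (w χ + if χ = b then δ else 0) =
      ∑ χ, w χ ^ 2 + δ * w a + δ * w b + if a = b then δ * δ else 0 := by
  rw [sum_mul_rep]
  simp_rw [add_mul, Finset.sum_add_distrib, ite_mul, zero_mul]
  rw [Finset.sum_ite_eq' Finset.univ a]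
  simp only [Finset.mem_univ, if_true]
  have : ∑ χ, w χ * w χ = ∑ χ, w χ ^ 2 := Finset.sum_congr rfl (fun χ _ => by ring)
  rw [this]
  by_cases hab : a = b
  · rw [if_pos hab, if_pos hab.symm]; ring
  · rw [if_neg hab, if_neg (Ne.symm hab)]; ring

theorem five_sq_le (w : B → ℤ) (E : Fin 5 → B) (hE : Function.Injective E) (k : ℤ)
    (hk : ∀ j, w (E j) = k) : 5 * k ^ 2 ≤ ∑ χ, w χ ^ 2 := by
  have h1 : ∑ χ ∈ Finset.univ.image E, w χ ^ 2 = 5 * k ^ 2 := by
    rw [Finset.sum_image (fun x _ y _ h => hE h)]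
    simp [hk]
  rw [← h1]
  apply Finset.sum_le_sum_of_subset_of_nonneg (Finset.subset_univ _)
  intro χ _ _
  exact sq_nonneg _

end sums

end Cfsg.Agent.Lib.Helper6.S3701
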