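import Mathlib
import Cfsg.Agent.Lib.Helper6.S3701.Lat

/-!
helper6: S3701, part 4: the lattice theorem `lattice_core`.
-/

set_option autoImplicit false

namespace Cfsg.Agent.Lib.Helper6.S3701

open Cfsg Cfsg.Agent.CharLib

universe u

variable {B : Type u} [Fintype B] [DecidableEq B]

theorem small_k (δ k : ℤ) (hδ : δ = 1 ∨ δ = -1) (h : 5 * k ^ 2 ≤ 4 - 2 * δ * k) :
    k = 0 ∨ k = -δ := by
  have hb : -1 ≤ k ∧ k ≤ 1 := by
    rcases hδ with rfl | rfl <;> constructor <;> nlinarith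
  obtain ⟨h1, h2⟩ := hb
  rcases hδ with rfl | rfl <;> interval_cases k <;> simp_all

theorem small_k' (δ k : ℤ) (hδ : δ = 1 ∨ δ = -1) (h : 5 * k ^ 2 ≤ 2 + 2 * δ * k) : k = 0 := by
  have hb : -1 ≤ k ∧ k ≤ 1 := by
    rcases hδ with rfl | rfl <;> constructor <;> nlinarith
  obtain ⟨h1, h2⟩ := hb
  rcases hδ with rfl | rfl <;> interval_cases k <;> simp_all

theorem lattice_core (v : M3 → B → ℤ) (f : B → ℤ) (hf : ∀ χ, 0 < f χ)
    (hgram : ∀ a a' : M3, a ≠ 0 → a' ≠ 0 → ∑ χ, v a χ * v a' χ =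
      4 + ((Finset.univ.filter (fun i : Fin 4 => sig i a' = a)).card : ℤ))
    (hvf : ∀ a : M3, a ≠ 0 → ∑ χ, v a χ * f χ = 0) :
    ∃ (δ k : ℤ) (E : Fin 5 → B), (δ = 1 ∨ δ = -1) ∧ (k = 0 ∨ k = -δ) ∧ Function.Injective E ∧
      (∀ j j', f (E j) = f (E j')) ∧
      (∀ χ, v (rep 0) χ - v (rep 1) χ =
        (if χ = E 0 then δ else 0) - (if χ = E 1 then δ else 0)) ∧
      ∀ (j : Fin 5) (a : M3), a ≠ 0 →
        v a (E j) = k + if (∃ i, sig i a = rep j) then δ else 0 := by
  classical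
  let I := {a : M3 // reg a}
  let R : I → I → Prop := fun p q => ∃ i, sig i q.1 = p.1
  have hR : Equivalence R := by
    refine ⟨fun p => ⟨0, sig_zero_idx _⟩, ?_, ?_⟩
    · rintro p q ⟨i, hi⟩
      exact ⟨i, by rw [← hi, sig_sig]⟩
    · rintro p q r ⟨i, hi⟩ ⟨j, hj⟩
      obtain ⟨m, hm⟩ := sig_comp i j
      exact ⟨m, by rw [← hm, hj, hi]⟩
  have hne : ∀ p : I, p.1 ≠ 0 := fun p => reg_ne_zero p.1 p.2
  have hg : ∀ p q : I, ∑ χ, v p.1 χ * v q.1 χ =
      4 + @ite ℤ (R p q) (Classical.propDecidable _) 1 0 := by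
    intro p q
    rw [hgram _ _ (hne p) (hne q), card_filter_reg p.1 q.1 q.2]
    by_cases h : R p q
    · rw [if_pos h, if_pos h]; rfl
    · rw [if_neg h, if_neg h]; rfl
  have h01 : ¬ R ⟨rep 0, reg_rep 0⟩ ⟨rep 1, reg_rep 1⟩ := by
    intro h
    have := rep_unrel 0 1 h
    exact absurd this (by decide)
  obtain ⟨δ, w, e, hδ, hrep, hee, hfe⟩ := lattice_structure R hR (fun p χ => v p.1 χ) 4 hg f hf
    (fun p => hvf p.1 (hne p)) ⟨rep 0, reg_rep 0⟩ ⟨rep 1, reg_rep 1⟩ h01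
  have hδ2 : δ * δ = 1 := by rcases hδ with rfl | rfl <;> norm_num
  let E : Fin 5 → B := fun j => e ⟨rep j, reg_rep j⟩
  have hEinj : Function.Injective E := by
    intro j j' h
    exact rep_unrel j j' ((hee _ _).mp h)
  -- the vectors of the representatives
  have hvrep : ∀ (j : Fin 5) (χ : B), v (rep j) χ = w χ + if χ = E j then δ else 0 :=
    fun j χ => hrep ⟨rep j, reg_rep j⟩ χ
  set W2 : ℤ := ∑ χ, w χ ^ 2 with hW2
  have hdiag : ∀ j : Fin 5, W2 + 2 * δ * w (E j) = 4 := by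
    intro j
    have h1 := hgram (rep j) (rep j) (reg_ne_zero _ (reg_rep j)) (reg_ne_zero _ (reg_rep j))
    rw [card_filter_reg _ _ (reg_rep j), if_pos ⟨0, sig_zero_idx _⟩] at h1
    simp_rw [hvrep j] at h1
    rw [sum_rep_mul_rep, if_pos rfl, hδ2] at h1
    push_cast at h1
    linarith
  have hk : ∀ j : Fin 5, w (E j) = w (E 0) := by
    intro j
    have h1 := hdiag j
    have h2 := hdiag 0
    have h3 : δ * (w (E j) - w (E 0)) = 0 := by linarith
    have hδ0 : δ ≠ 0 := by rcases hδ with rfl | rfl <;> norm_num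
    rcases mul_eq_zero.mp h3 with h | h
    · exact absurd h hδ0
    · linarith
  set k : ℤ := w (E 0) with hkdef
  have hW : W2 = 4 - 2 * δ * k := by
    have := hdiag 0
    linarith
  have hk0 : k = 0 ∨ k = -δ := by
    apply small_k δ k hδ
    rw [← hW]
    exact five_sq_le w E hEinj k hk
  refine ⟨δ, k, E, hδ, hk0, hEinj, fun j j' => hfe _ _, ?_, ?_⟩
  · intro χ
    rw [hvrep 0 χ, hvrep 1 χ]
    ring
  intro j a ha
  by_cases hra : reg a
  · -- regular `a`
    have h1 := hrep ⟨a, hra⟩ (E j)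
    simp only at h1
    rw [h1, hk j]
    have h2 : (E j = e ⟨a, hra⟩) ↔ ∃ i, sig i a = rep j := hee _ _
    by_cases h3 : ∃ i, sig i a = rep j
    · rw [if_pos h3, if_pos (h2.mpr h3)]
    · rw [if_neg h3, if_neg (fun h => h3 (h2.mp h))]
  · -- non-regular `a`
    obtain ⟨hst, hj⟩ := nonreg_facts a ha hra
    rw [if_neg (hj j).2, add_zero]
    set P : ℤ := ∑ χ, v a χ * w χ with hP
    have hcross : ∀ l : Fin 5, P + δ * v a (E l) = 4 := by
      intro l
      have h1 := hgram a (rep l) ha (reg_ne_zero _ (reg_rep l))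
      rw [(hj l).1] at h1
      simp_rw [hvrep l] at h1
      rw [sum_mul_rep] at h1
      push_cast at h1
      linarith
    have hself : ∑ χ, v a χ ^ 2 = 6 := by
      have h1 := hgram a a ha ha
      rw [hst] at h1
      push_cast at h1
      rw [← h1]
      exact Finset.sum_congr rfl (fun χ _ => by ring)
    -- all `v a (E l)` are equal to `κ`
    have hκ : ∀ l : Fin 5, v a (E l) = v a (E j) := by
      intro l
      have h1 := hcross l
      have h2 := hcross j
      have h3 : δ * (v a (E l) - v a (E j)) = 0 := by linarith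
      have hδ0 : δ ≠ 0 := by rcases hδ with rfl | rfl <;> norm_num
      rcases mul_eq_zero.mp h3 with h | h
      · exact absurd h hδ0
      · linarith
    set κ : ℤ := v a (E j) with hκdef
    have hPκ : P = 4 - δ * κ := by
      have := hcross j
      linarith
    have hU : ∑ χ, (v a χ - w χ) ^ 2 = 2 + 2 * δ * (κ - k) := by
      have e1 : ∀ χ, (v a χ - w χ) ^ 2 = v a χ ^ 2 - 2 * (v a χ * w χ) + w χ ^ 2 := by
        intro χ; ring
      simp_rw [e1]
      rw [Finset.sum_add_distrib, Finset.sum_sub_distrib, hself, ← Finset.mul_sum, ← hP, ← hW2, hW,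
        hPκ]
      ring
    have h5 : 5 * (κ - k) ^ 2 ≤ ∑ χ, (v a χ - w χ) ^ 2 := by
      apply five_sq_le (fun χ => v a χ - w χ) E hEinj (κ - k)
      intro l
      rw [hκ l, hk l]
    rw [hU] at h5
    have := small_k' δ (κ - k) hδ h5
    linarith

end Cfsg.Agent.Lib.Helper6.S3701
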