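import Mathlib
import Cfsg.Agent.Lib.Helper6.S3701.Lat

/-!
helper6: S3701, part 5: explicit character sums over `M3 = (ZMod 3)^3` (27-term expansions).
-/

set_option autoImplicit false
set_option linter.unusedSimpArgs false

namespace Cfsg.Agent.Lib.Helper6.S3701

/-- the products `x1^{±1} x2^{±1}` -/
def B3 : Finset M3 := {(1, 1, 0), (1, 2, 0), (2, 1, 0), (2, 2, 0)}

theorem sum_zmod3 (f : ZMod 3 → ℂ) : ∑ x : ZMod 3, f x = f 0 + f 1 + f 2 :=
  Fin.sum_univ_three f

theorem sum_zmod3_int (f : ZMod 3 → ℤ) : ∑ x : ZMod 3, f x = f 0 + f 1 + f 2 :=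
  Fin.sum_univ_three f

theorem val3_0 : (0 : ZMod 3).val = 0 := rfl
theorem val3_1 : (1 : ZMod 3).val = 1 := rfl
theorem val3_2 : (2 : ZMod 3).val = 2 := rfl

section

variable (ζ : ℂ) (hz : ζ ^ 2 + ζ + 1 = 0) (k δ : ℂ)

include hz

theorem val_0_1 :
    ∑ a : M3, (if a = 0 then 0 else k + if (∃ i, sig i a = rep 0) then δ else 0) *
      ζ ^ (pair a ((1, 0, 0) : M3)).val = -k + δ * (-2) := by
  simp only [Fintype.sum_prod_type, sum_zmod3]
  simp (decide := true) only [if_true, if_false, pair, mul_one, mul_zero, zero_mul, add_zero,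
    zero_add, val3_0, val3_1, val3_2, pow_zero, pow_one]
  linear_combination (9 * k + 2 * δ) * hz

theorem val_0_2 :
    ∑ a : M3, (if a = 0 then 0 else k + if (∃ i, sig i a = rep 0) then δ else 0) *
      ζ ^ (pair a ((0, 1, 0) : M3)).val = -k + δ * (-2) := by
  simp only [Fintype.sum_prod_type, sum_zmod3]
  simp (decide := true) only [if_true, if_false, pair, mul_one, mul_zero, zero_mul, add_zero,
    zero_add, val3_0, val3_1, val3_2, pow_zero, pow_one]
  linear_combination (9 * k + 2 * δ) * hz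

theorem val_1_1 :
    ∑ a : M3, (if a = 0 then 0 else k + if (∃ i, sig i a = rep 1) then δ else 0) *
      ζ ^ (pair a ((1, 0, 0) : M3)).val = -k + δ * (-2) := by
  simp only [Fintype.sum_prod_type, sum_zmod3]
  simp (decide := true) only [if_true, if_false, pair, mul_one, mul_zero, zero_mul, add_zero,
    zero_add, val3_0, val3_1, val3_2, pow_zero, pow_one]
  linear_combination (9 * k + 2 * δ) * hz

theorem val_1_2 :
    ∑ a : M3, (if a = 0 then 0 else k + if (∃ i, sig i a = rep 1) then δ else 0) *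
      ζ ^ (pair a ((0, 1, 0) : M3)).val = -k + δ * 4 := by
  simp only [Fintype.sum_prod_type, sum_zmod3]
  simp (decide := true) only [if_true, if_false, pair, mul_one, mul_zero, zero_mul, add_zero,
    zero_add, val3_0, val3_1, val3_2, pow_zero, pow_one]
  linear_combination (9 * k) * hz

omit hz in
theorem cube_of_root (hz : ζ ^ 2 + ζ + 1 = 0) : ζ ^ 3 = 1 := by linear_combination (ζ - 1) * hz

theorem b3_sum_0 :
    ∑ m : M3, (ζ ^ (pair (rep 0) (-m)).val - 1) * (if m ∈ B3 then (1 : ℂ) else 0) = -3 := by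
  simp only [Fintype.sum_prod_type, sum_zmod3]
  simp (decide := true) only [if_true, if_false, mul_one, mul_zero, add_zero, zero_add]
  have e1 : pair (rep 0) (-((1, 1, 0) : M3)) = 1 := by decide
  have e2 : pair (rep 0) (-((1, 2, 0) : M3)) = 0 := by decide
  have e3 : pair (rep 0) (-((2, 1, 0) : M3)) = 0 := by decide
  have e4 : pair (rep 0) (-((2, 2, 0) : M3)) = 2 := by decide
  rw [e1, e2, e3, e4, val3_0, val3_1, val3_2]
  linear_combination hz

theorem b3_sum_1 :
    ∑ m : M3, (ζ ^ (pair (rep 1) (-m)).val - 1) * (if m ∈ B3 then (1 : ℂ) else 0) = -6 := by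
  simp only [Fintype.sum_prod_type, sum_zmod3]
  simp (decide := true) only [if_true, if_false, mul_one, mul_zero, add_zero, zero_add]
  have e1 : pair (rep 1) (-((1, 1, 0) : M3)) = 2 := by decide
  have e2 : pair (rep 1) (-((1, 2, 0) : M3)) = 2 := by decide
  have e3 : pair (rep 1) (-((2, 1, 0) : M3)) = 1 := by decide
  have e4 : pair (rep 1) (-((2, 2, 0) : M3)) = 1 := by decide
  rw [e1, e2, e3, e4, val3_1, val3_2]
  linear_combination 2 * hz

end

theorem deg_sum (k δ : ℤ) :
    ∑ a : M3, (if a = 0 then 0 else k + if (∃ i, sig i a = rep 0) then δ else 0) =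
      26 * k + 4 * δ := by
  simp only [Fintype.sum_prod_type, sum_zmod3_int]
  simp (decide := true) only [if_true, if_false]
  ring

end Cfsg.Agent.Lib.Helper6.S3701
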