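import Mathlib
import Cfsg.Agent.Lib.Helper6.S3701.Gram
import Cfsg.Agent.Lib.Helper6.S3701.Lat2
import Cfsg.Agent.Lib.Helper6.S3701.Vals

/-!
helper6: S3701, part 6: the arithmetic core. From the character values on the model `A3` of the
Sylow 3-subgroup (second orthogonality, integrality of multiplicities, one local class
multiplication constant) we get `N ≤ 145 ∨ N = 270` for the group order `N`.
-/

set_option autoImplicit false
set_option maxHeartbeats 1000000

namespace Cfsg.Agent.Lib.Helper6.S3701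

open Cfsg Cfsg.Agent.CharLib
open scoped ComplexConjugate

universe u

theorem card_A3 : Fintype.card A3 = 27 := by rfl

theorem exists_zeta : ∃ ζ : ℂˣ, ζ ^ 3 = 1 ∧ ζ ≠ 1 := by
  have h := Complex.isPrimitiveRoot_exp 3 (by norm_num)
  refine ⟨Units.mk0 _ (h.ne_zero (by norm_num)), ?_, ?_⟩
  · apply Units.ext
    rw [Units.val_pow_eq_pow_val, Units.val_mk0, Units.val_one]
    exact h.pow_eq_one
  · intro h1
    have := congrArg Units.val h1
    rw [Units.val_mk0, Units.val_one] at this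
    exact h.ne_one (by norm_num) this

theorem zeta_root (ζ : ℂˣ) (h3 : ζ ^ 3 = 1) (h1 : ζ ≠ 1) : (ζ : ℂ) ^ 2 + (ζ : ℂ) + 1 = 0 := by
  have h3' : (ζ : ℂ) ^ 3 = 1 := by
    have := congrArg Units.val h3
    rwa [Units.val_pow_eq_pow_val, Units.val_one] at this
  have h1' : (ζ : ℂ) ≠ 1 := fun h => h1 (Units.ext h)
  have : ((ζ : ℂ) - 1) * ((ζ : ℂ) ^ 2 + ζ + 1) = 0 := by linear_combination h3'
  rcases mul_eq_zero.mp this with h | h
  · exact absurd (sub_eq_zero.mp h) h1'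
  · exact h

theorem sum_A3 (F : A3 → ℂ) : ∑ y : A3, F y = ∑ m : M3, F (Multiplicative.ofAdd m) :=
  (Equiv.sum_comp (Multiplicative.ofAdd : M3 ≃ A3) F).symm

variable {B : Type u} [Fintype B] [DecidableEq B]

theorem five_sq_le_nat (d : B → ℕ) (E : Fin 5 → B) (hE : Function.Injective E) (f : ℕ)
    (hf : ∀ j, d (E j) = f) : 5 * f ^ 2 ≤ ∑ χ, d χ ^ 2 := by
  have h1 : ∑ χ ∈ Finset.univ.image E, d χ ^ 2 = 5 * f ^ 2 := by
    rw [Finset.sum_image (fun x _ y _ h => hE h)]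
    simp [hf]
  rw [← h1]
  exact Finset.sum_le_sum_of_subset (Finset.subset_univ _)

theorem core (X : B → A3 → ℂ) (N : ℕ) (d : B → ℕ)
    (hnat : ∀ χ (ψ : A3 →* ℂˣ), ∃ n : ℕ, multP (X χ) ψ = n)
    (hd : ∀ χ, 0 < d χ) (hX1 : ∀ χ, X χ 1 = d χ)
    (horth : ∀ y y' : A3, y ≠ 1 → y' ≠ 1 → ∑ χ, X χ y * conj (X χ y') =
      27 * ∑ i : Fin 4, if y' = bet i y then 1 else 0)
    (horth1 : ∀ y : A3, y ≠ 1 → ∑ χ, (d χ : ℂ) * X χ y = 0)
    (hsq : ∑ χ, (d χ) ^ 2 = N)
    (hcm : ∀ y : A3, y ≠ 1 →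
      (N : ℂ) * ∑ χ, X χ (Multiplicative.ofAdd ((1, 0, 0) : M3)) *
        X χ (Multiplicative.ofAdd ((0, 1, 0) : M3)) * X χ y / (d χ : ℂ) =
      2916 * (if Multiplicative.toAdd y ∈ B3 then 1 else 0)) :
    N ≤ 145 ∨ N = 270 := by
  classical
  letI : Fintype (A3 →* ℂˣ) := Fintype.ofFinite _
  obtain ⟨ζ, h3, h1⟩ := exists_zeta
  have hz := zeta_root ζ h3 h1
  -- integer coefficients
  choose nm hnm using hnat
  let c : B → (A3 →* ℂˣ) → ℤ := fun χ ψ => (nm χ ψ : ℤ) - (nm χ 1 : ℤ)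
  have hc : ∀ χ ψ, (c χ ψ : ℂ) = multP (X χ) ψ - multP (X χ) 1 := by
    intro χ ψ
    simp only [c]
    push_cast
    rw [hnm, hnm]
  have horth' : ∀ y y' : A3, y ≠ 1 → y' ≠ 1 → ∑ χ, X χ y * conj (X χ y') =
      (Fintype.card A3 : ℂ) *
        ∑ i : Fin 4, @ite ℂ (y' = bet i y) (Classical.propDecidable _) 1 0 := by
    intro y y' hy hy'
    rw [horth y y' hy hy', card_A3]
    have : ((27 : ℕ) : ℂ) = 27 := by norm_num
    rw [this]
    congr 1
    apply Finset.sum_congr rfl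
    intro i _
    by_cases h : y' = bet i y
    · rw [if_pos h, if_pos h]
    · rw [if_neg h, if_neg h]
  have hgramψ := gram_family bet X c hc horth'
  let v : M3 → B → ℤ := fun a χ => c χ (psi ζ h3 a)
  have hgram : ∀ a a' : M3, a ≠ 0 → a' ≠ 0 → ∑ χ, v a χ * v a' χ =
      4 + ((Finset.univ.filter (fun i : Fin 4 => sig i a' = a)).card : ℤ) := by
    intro a a' ha ha'
    have h := hgramψ (psi ζ h3 a) (psi ζ h3 a') (psi_ne_one ζ h3 h1 a ha)
      (psi_ne_one ζ h3 h1 a' ha')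
    have hfilt : Finset.univ.filter
        (fun i : Fin 4 => (psi ζ h3 a').comp (bet i).toMonoidHom = psi ζ h3 a) =
        Finset.univ.filter (fun i : Fin 4 => sig i a' = a) := by
      apply Finset.filter_congr
      intro i _
      rw [psi_comp_bet]
      exact ⟨fun h => psi_injective ζ h3 h1 h, fun h => by rw [h]⟩
    rw [hfilt] at h
    have h' : ((∑ χ, v a χ * v a' χ : ℤ) : ℂ) =
        ((4 + ((Finset.univ.filter (fun i : Fin 4 => sig i a' = a)).card : ℤ) : ℤ) : ℂ) := by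
      rw [h]
      simp [Fintype.card_fin]
    exact_mod_cast h'
  have hvf : ∀ a : M3, a ≠ 0 → ∑ χ, v a χ * (d χ : ℤ) = 0 := by
    intro a _
    have h := sum_coeff_mul_of_orth X (fun χ => (d χ : ℂ)) horth1 (psi ζ h3 a)
    have h' : ((∑ χ, v a χ * (d χ : ℤ) : ℤ) : ℂ) = 0 := by
      push_cast
      rw [← h]
      apply Finset.sum_congr rfl
      intro χ _
      rw [hc]
    exact_mod_cast h'
  obtain ⟨δ, k, E, hδ, hk, hEinj, hfE, hdiff, hv⟩ :=
    lattice_core v (fun χ => (d χ : ℤ)) (fun χ => by exact_mod_cast hd χ) hgram hvf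
  have hδ2 : δ * δ = 1 := by rcases hδ with rfl | rfl <;> norm_num
  have hfE' : ∀ j, d (E j) = d (E 0) := by
    intro j
    have := hfE j 0
    exact_mod_cast this
  -- values of the exceptional characters
  have hv0 : ∀ χ, v 0 χ = 0 := by
    intro χ
    simp only [v, c, psi_zero]
    ring
  have hexp : ∀ χ (y : A3), y ≠ 1 →
      X χ y = ∑ a : M3, (v a χ : ℂ) * ((psi ζ h3 a y : ℂˣ) : ℂ) := by
    intro χ y hy
    rw [expansion_of_ne_one a3_comm (X χ) y hy, ← Equiv.sum_comp (psiEquiv ζ h3 h1)]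
    apply Finset.sum_congr rfl
    intro a _
    rw [psiEquiv_apply, hc]
  have hval : ∀ (j : Fin 5) (y : A3), y ≠ 1 → X (E j) y =
      ∑ a : M3, (if a = 0 then 0 else (k : ℂ) + if (∃ i, sig i a = rep j) then (δ : ℂ) else 0) *
        (ζ : ℂ) ^ (pair a (Multiplicative.toAdd y)).val := by
    intro j y hy
    rw [hexp _ y hy]
    apply Finset.sum_congr rfl
    intro a _
    rw [psi_apply, Units.val_pow_eq_pow_val]
    congr 1
    by_cases ha : a = 0
    · rw [if_pos ha, ha, hv0]; simp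
    · rw [if_neg ha, hv j a ha]
      push_cast
      split_ifs <;> simp
  have e1ne : (Multiplicative.ofAdd ((1, 0, 0) : M3) : A3) ≠ 1 := by
    intro h
    have := congrArg Multiplicative.toAdd h
    revert this
    decide
  have e2ne : (Multiplicative.ofAdd ((0, 1, 0) : M3) : A3) ≠ 1 := by
    intro h
    have := congrArg Multiplicative.toAdd h
    revert this
    decide
  have x01 : X (E 0) (Multiplicative.ofAdd ((1, 0, 0) : M3)) = -(k : ℂ) + δ * (-2) := by
    rw [hval 0 _ e1ne]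
    exact val_0_1 (ζ : ℂ) hz k δ
  have x02 : X (E 0) (Multiplicative.ofAdd ((0, 1, 0) : M3)) = -(k : ℂ) + δ * (-2) := by
    rw [hval 0 _ e2ne]
    exact val_0_2 (ζ : ℂ) hz k δ
  have x11 : X (E 1) (Multiplicative.ofAdd ((1, 0, 0) : M3)) = -(k : ℂ) + δ * (-2) := by
    rw [hval 1 _ e1ne]
    exact val_1_1 (ζ : ℂ) hz k δ
  have x12 : X (E 1) (Multiplicative.ofAdd ((0, 1, 0) : M3)) = -(k : ℂ) + δ * 4 := by
    rw [hval 1 _ e2ne]
    exact val_1_2 (ζ : ℂ) hz k δ
  -- the degree of `E 0`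
  have hdeg : (d (E 0) : ℤ) = 27 * (nm (E 0) 1 : ℤ) + 26 * k + 4 * δ := by
    have h := fourier_inversion a3_comm (X (E 0)) 1
    have e : ∀ ψ : A3 →* ℂˣ, (∑ y' : A3, X (E 0) y' * conj ((ψ y' : ℂˣ) : ℂ)) *
        ((ψ 1 : ℂˣ) : ℂ) = 27 * (nm (E 0) ψ : ℂ) := by
      intro ψ
      rw [map_one, Units.val_one, mul_one, ← hnm]
      unfold multP
      rw [card_A3]
      push_cast
      ring
    rw [Finset.sum_congr rfl (fun ψ _ => e ψ), ← Finset.mul_sum, hX1, card_A3] at h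
    have h2 : ∑ ψ : A3 →* ℂˣ, (nm (E 0) ψ : ℂ) = (d (E 0) : ℂ) := by
      have h27 : (27 : ℂ) ≠ 0 := by norm_num
      have : ((27 : ℕ) : ℂ) = 27 := by norm_num
      rw [this] at h
      exact mul_left_cancel₀ h27 h
    rw [← Equiv.sum_comp (psiEquiv ζ h3 h1)] at h2
    have h3' : ∀ a : M3, (nm (E 0) (psiEquiv ζ h3 h1 a) : ℂ) =
        ((v a (E 0) + (nm (E 0) 1 : ℤ) : ℤ) : ℂ) := by
      intro a
      rw [psiEquiv_apply]
      simp only [v, c]
      push_cast
      ring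
    rw [Finset.sum_congr rfl (fun a _ => h3' a)] at h2
    have h4 : ∑ a : M3, (v a (E 0) + (nm (E 0) 1 : ℤ)) = (d (E 0) : ℤ) := by
      exact_mod_cast h2
    rw [Finset.sum_add_distrib, Finset.sum_const, Finset.card_univ] at h4
    have h5 : ∑ a : M3, v a (E 0) =
        ∑ a : M3, (if a = 0 then 0 else k + if (∃ i, sig i a = rep 0) then δ else 0) := by
      apply Finset.sum_congr rfl
      intro a _
      by_cases ha : a = 0
      · rw [if_pos ha, ha, hv0]
      · rw [if_neg ha, hv 0 a ha]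
    rw [h5, deg_sum] at h4
    have h6 : Fintype.card M3 = 27 := by rfl
    rw [h6] at h4
    rw [← h4]
    simp only [nsmul_eq_mul]
    push_cast
    ring
  -- the class multiplication equation
  have hf0 : 0 < d (E 0) := hd _
  have hNpos : 0 < N := by
    have := five_sq_le_nat d E hEinj (d (E 0)) hfE'
    rw [hsq] at this
    nlinarith
  have hNC : (N : ℂ) ≠ 0 := by exact_mod_cast hNpos.ne'
  let Zc : B → ℂ := fun χ => X χ (Multiplicative.ofAdd ((1, 0, 0) : M3)) *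
    X χ (Multiplicative.ofAdd ((0, 1, 0) : M3)) / (d χ : ℂ)
  have hW : ∀ y : A3, y ≠ 1 → ∑ χ, Zc χ * X χ y =
      2916 / (N : ℂ) * (if Multiplicative.toAdd y ∈ B3 then 1 else 0) := by
    intro y hy
    have h := hcm y hy
    have e : ∑ χ, Zc χ * X χ y = ∑ χ, X χ (Multiplicative.ofAdd ((1, 0, 0) : M3)) *
        X χ (Multiplicative.ofAdd ((0, 1, 0) : M3)) * X χ y / (d χ : ℂ) := by
      apply Finset.sum_congr rfl
      intro χ _
      simp only [Zc]
      ring
    rw [e]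
    field_simp
    rw [mul_comm]
    exact h
  have hpair : ∀ j : Fin 5, ∑ χ, (v (rep j) χ : ℂ) * Zc χ =
      (27 : ℂ)⁻¹ * (2916 / (N : ℂ)) *
        ∑ m : M3, ((ζ : ℂ) ^ (pair (rep j) (-m)).val - 1) * (if m ∈ B3 then (1 : ℂ) else 0) := by
    intro j
    have h := sum_coeff_mul X Zc (psi ζ h3 (rep j))
    have e : ∑ χ, (v (rep j) χ : ℂ) * Zc χ =
        ∑ χ, (multP (X χ) (psi ζ h3 (rep j)) - multP (X χ) 1) * Zc χ := by
      apply Finset.sum_congr rfl
      intro χ _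
      rw [← hc]
    rw [e, h, card_A3, sum_A3, mul_assoc]
    have : ((27 : ℕ) : ℂ) = 27 := by norm_num
    rw [this]
    congr 1
    rw [Finset.mul_sum]
    apply Finset.sum_congr rfl
    intro m _
    rw [conj_hom_apply, psi_apply, Units.val_pow_eq_pow_val]
    have e2 : Multiplicative.toAdd ((Multiplicative.ofAdd m : A3)⁻¹) = -m := rfl
    rw [e2]
    by_cases hm : m = 0
    · subst hm
      have : pair (rep j) (-(0 : M3)) = 0 := by simp [pair]
      rw [this]
      have hB : (0 : M3) ∉ B3 := by decide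
      rw [if_neg hB]
      simp
    · have hy : (Multiplicative.ofAdd m : A3) ≠ 1 := by
        intro h
        exact hm (congrArg Multiplicative.toAdd h)
      rw [hW _ hy, toAdd_ofAdd]
      ring
  have hp0 := hpair 0
  have hp1 := hpair 1
  rw [b3_sum_0 (ζ : ℂ) hz] at hp0
  rw [b3_sum_1 (ζ : ℂ) hz] at hp1
  have hlhs : ∑ χ, ((v (rep 0) χ : ℂ) - (v (rep 1) χ : ℂ)) * Zc χ =
      (δ : ℂ) * Zc (E 0) - (δ : ℂ) * Zc (E 1) := by
    have e : ∀ χ, ((v (rep 0) χ : ℂ) - (v (rep 1) χ : ℂ)) * Zc χ =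
        (if χ = E 0 then (δ : ℂ) * Zc χ else 0) - (if χ = E 1 then (δ : ℂ) * Zc χ else 0) := by
      intro χ
      have := hdiff χ
      have h' : ((v (rep 0) χ : ℂ) - (v (rep 1) χ : ℂ)) =
          (if χ = E 0 then (δ : ℂ) else 0) - (if χ = E 1 then (δ : ℂ) else 0) := by
        have h2 : (((v (rep 0) χ - v (rep 1) χ : ℤ)) : ℂ) =
            (((if χ = E 0 then δ else 0) - (if χ = E 1 then δ else 0) : ℤ) : ℂ) := by rw [this]
        push_cast at h2
        exact h2
      rw [h']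
      split_ifs <;> ring
    rw [Finset.sum_congr rfl (fun χ _ => e χ), Finset.sum_sub_distrib,
      Finset.sum_ite_eq' Finset.univ (E 0), Finset.sum_ite_eq' Finset.univ (E 1)]
    simp
  have hmain : (δ : ℂ) * Zc (E 0) - (δ : ℂ) * Zc (E 1) = 324 / (N : ℂ) := by
    rw [← hlhs]
    simp_rw [sub_mul]
    rw [Finset.sum_sub_distrib, hp0, hp1]
    field_simp
    ring
  -- final arithmetic
  have hfC : (d (E 0) : ℂ) ≠ 0 := by exact_mod_cast hf0.ne'
  have hZ0 : Zc (E 0) = (-(k : ℂ) + δ * (-2)) * (-(k : ℂ) + δ * (-2)) / (d (E 0) : ℂ) := by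
    simp only [Zc]
    rw [x01, x02]
  have hZ1 : Zc (E 1) = (-(k : ℂ) + δ * (-2)) * (-(k : ℂ) + δ * 4) / (d (E 0) : ℂ) := by
    simp only [Zc]
    rw [x11, x12, hfE' 1]
  have hδ2C : (δ : ℂ) * δ = 1 := by exact_mod_cast hδ2
  have hfin : ((k : ℂ) + 2 * δ) * N = 54 * (d (E 0) : ℂ) := by
    rw [hZ0, hZ1] at hmain
    field_simp at hmain
    linear_combination (1 / 6 : ℂ) * hmain + (-(N : ℂ) * (k + 2 * δ)) * hδ2C
  have hfinZ : (k + 2 * δ) * (N : ℤ) = 54 * (d (E 0) : ℤ) := by exact_mod_cast hfin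
  have h5 := five_sq_le_nat d E hEinj (d (E 0)) hfE'
  rw [hsq] at h5
  have hNZ : (0 : ℤ) < N := by exact_mod_cast hNpos
  have hfZ : (0 : ℤ) < d (E 0) := by exact_mod_cast hf0
  have h5Z : 5 * (d (E 0) : ℤ) ^ 2 ≤ N := by exact_mod_cast h5
  rcases hk with hk0 | hk1
  · -- k = 0
    left
    rw [hk0] at hfinZ
    rcases hδ with rfl | rfl
    · have hN : (N : ℤ) = 27 * d (E 0) := by linarith
      have : (d (E 0) : ℤ) ≤ 5 := by nlinarith
      have : (N : ℤ) ≤ 145 := by linarith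
      exact_mod_cast this
    · exfalso
      nlinarith
  · -- k = -δ
    rw [hk1] at hfinZ hdeg
    rcases hδ with rfl | rfl
    · right
      have hN : (N : ℤ) = 54 * d (E 0) := by linarith
      have hle : (d (E 0) : ℤ) ≤ 10 := by nlinarith
      have hn : (0 : ℤ) ≤ nm (E 0) 1 := by positivity
      have hf5 : (d (E 0) : ℤ) = 5 := by omega
      have : (N : ℤ) = 270 := by rw [hN, hf5]; norm_num
      exact_mod_cast this
    · exfalso
      nlinarith

end Cfsg.Agent.Lib.Helper6.S3701
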