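import Mathlib
import Cfsg.Agent.Lib.Helper6.S3701.Dual3

/-!
helper6: S3701, part 7: local group theory, I. The structure `Data` (generators and relations of
`H = 3^3 : 2^2` inside `G`), the parametrisation `param : M3 → G` of the Sylow 3-subgroup and the
normal form `param m * vv i` of the elements of `H`.
-/

set_option autoImplicit false

namespace Cfsg.Agent.Lib.Helper6.S3701

variable {G : Type*} [Group G]

/-- `x ^ i` for an exponent `i : ZMod 3` -/
def zp (x : G) (i : ZMod 3) : G := x ^ i.val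

theorem zp_zero (x : G) : zp x 0 = 1 := by simp [zp]

theorem zp_one (x : G) : zp x 1 = x := by
  have : (1 : ZMod 3).val = 1 := rfl
  simp [zp, this]

theorem zp_add {x : G} (h3 : x ^ 3 = 1) (i j : ZMod 3) : zp x (i + j) = zp x i * zp x j := by
  unfold zp
  rw [ZMod.val_add, ← pow_add, ← pow_eq_pow_mod _ h3]

theorem zp_cube {x : G} (h3 : x ^ 3 = 1) (i : ZMod 3) : zp x i ^ 3 = 1 := by
  unfold zp
  rw [← pow_mul, mul_comm, pow_mul, h3, one_pow]

theorem zp_two_mul {x : G} (h3 : x ^ 3 = 1) (i : ZMod 3) : zp x (2 * i) = (zp x i)⁻¹ := by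
  have h : zp x (2 * i) * zp x i = 1 := by
    rw [← zp_add h3]
    have : 2 * i + i = 0 := by
      have h30 : (3 : ZMod 3) = 0 := by decide
      linear_combination i * h30
    rw [this, zp_zero]
  exact eq_inv_of_mul_eq_one_left h

theorem zp_one_mul (x : G) (i : ZMod 3) : zp x (1 * i) = zp x i := by rw [one_mul]

theorem zp_conj (g x : G) (i : ZMod 3) : g * zp x i * g⁻¹ = zp (g * x * g⁻¹) i := by
  unfold zp
  rw [conj_pow]

theorem zp_inv_base {x : G} (h3 : x ^ 3 = 1) (i : ZMod 3) : zp x⁻¹ i = zp x (2 * i) := by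
  rw [zp_two_mul h3]
  unfold zp
  rw [inv_pow]

/-- the generators and relations of `H = 3^3 : 2^2` -/
structure Data (H T : Subgroup G) (x1 x2 x3 a b : G) : Prop where
  x1H : x1 ∈ H
  x2H : x2 ∈ H
  x3H : x3 ∈ H
  aH : a ∈ H
  bH : b ∈ H
  x1c : x1 ^ 3 = 1
  x2c : x2 ^ 3 = 1
  x3c : x3 ^ 3 = 1
  x1ne : x1 ≠ 1
  x2ne : x2 ≠ 1
  c12 : x1 * x2 = x2 * x1
  c13 : x1 * x3 = x3 * x1
  c23 : x2 * x3 = x3 * x2
  a2 : a * a = 1
  b2 : b * b = 1
  ab : a * b = b * a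
  ax1 : a * x1 * a⁻¹ = x1⁻¹
  ax2 : a * x2 * a⁻¹ = x2⁻¹
  ax3 : a * x3 * a⁻¹ = x3
  bx1 : b * x1 * b⁻¹ = x1⁻¹
  bx2 : b * x2 * b⁻¹ = x2
  bx3 : b * x3 * b⁻¹ = x3⁻¹
  gen : H ≤ Subgroup.closure {x1, x2, x3, a, b}
  TH : T ≤ H
  cardT : Nat.card T = 27
  norm : Subgroup.normalizer (T : Set G) = H
  cent : ∀ t ∈ T, t ≠ 1 → Subgroup.centralizer ({t} : Set G) ≤ H

/-- the parametrisation of the Sylow 3-subgroup -/
def param (x1 x2 x3 : G) (m : M3) : G := zp x1 m.1 * zp x2 m.2.1 * zp x3 m.2.2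

/-- the four elements of the complement -/
def vv (a b : G) : Fin 4 → G := ![1, a, b, a * b]

/-- the multiplication table of the complement -/
def mulIdx : Fin 4 → Fin 4 → Fin 4 := ![![0, 1, 2, 3], ![1, 0, 3, 2], ![2, 3, 0, 1], ![3, 2, 1, 0]]

namespace Data

variable {H T : Subgroup G} {x1 x2 x3 a b : G}

theorem param_zero (_h : Data H T x1 x2 x3 a b) : param x1 x2 x3 0 = 1 := by
  simp [param, zp_zero]

theorem zc12 (h : Data H T x1 x2 x3 a b) (i j : ZMod 3) : Commute (zp x1 i) (zp x2 j) :=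
  (Commute.pow_pow (show Commute x1 x2 from h.c12) _ _)

theorem zc13 (h : Data H T x1 x2 x3 a b) (i j : ZMod 3) : Commute (zp x1 i) (zp x3 j) :=
  (Commute.pow_pow (show Commute x1 x3 from h.c13) _ _)

theorem zc23 (h : Data H T x1 x2 x3 a b) (i j : ZMod 3) : Commute (zp x2 i) (zp x3 j) :=
  (Commute.pow_pow (show Commute x2 x3 from h.c23) _ _)

theorem param_add (h : Data H T x1 x2 x3 a b) (m m' : M3) :
    param x1 x2 x3 (m + m') = param x1 x2 x3 m * param x1 x2 x3 m' := by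
  unfold param
  simp only [Prod.fst_add, Prod.snd_add]
  rw [zp_add h.x1c, zp_add h.x2c, zp_add h.x3c]
  have e1 := (h.zc12 m'.1 m.2.1).eq
  have e2 := (h.zc13 m'.1 m.2.2).eq
  have e3 := (h.zc23 m'.2.1 m.2.2).eq
  calc zp x1 m.1 * zp x1 m'.1 * (zp x2 m.2.1 * zp x2 m'.2.1) * (zp x3 m.2.2 * zp x3 m'.2.2)
      = zp x1 m.1 * (zp x1 m'.1 * zp x2 m.2.1) * zp x2 m'.2.1 * (zp x3 m.2.2 * zp x3 m'.2.2) := by
        group
    _ = zp x1 m.1 * (zp x2 m.2.1 * zp x1 m'.1) * zp x2 m'.2.1 * (zp x3 m.2.2 * zp x3 m'.2.2) := by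
        rw [e1]
    _ = zp x1 m.1 * zp x2 m.2.1 * zp x1 m'.1 * (zp x2 m'.2.1 * zp x3 m.2.2) * zp x3 m'.2.2 := by
        group
    _ = zp x1 m.1 * zp x2 m.2.1 * zp x1 m'.1 * (zp x3 m.2.2 * zp x2 m'.2.1) * zp x3 m'.2.2 := by
        rw [e3]
    _ = zp x1 m.1 * zp x2 m.2.1 * (zp x1 m'.1 * zp x3 m.2.2) * zp x2 m'.2.1 * zp x3 m'.2.2 := by
        group
    _ = zp x1 m.1 * zp x2 m.2.1 * (zp x3 m.2.2 * zp x1 m'.1) * zp x2 m'.2.1 * zp x3 m'.2.2 := by
        rw [e2]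
    _ = zp x1 m.1 * zp x2 m.2.1 * zp x3 m.2.2 * (zp x1 m'.1 * zp x2 m'.2.1 * zp x3 m'.2.2) := by
        group

theorem param_neg (h : Data H T x1 x2 x3 a b) (m : M3) :
    param x1 x2 x3 (-m) = (param x1 x2 x3 m)⁻¹ := by
  apply eq_inv_of_mul_eq_one_left
  rw [← h.param_add, neg_add_cancel, h.param_zero]

theorem param_comm (h : Data H T x1 x2 x3 a b) (m m' : M3) :
    param x1 x2 x3 m * param x1 x2 x3 m' = param x1 x2 x3 m' * param x1 x2 x3 m := by
  rw [← h.param_add, ← h.param_add, add_comm]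

theorem param_cube (h : Data H T x1 x2 x3 a b) (m : M3) : param x1 x2 x3 m ^ 3 = 1 := by
  have e : m + m + m = 0 := by
    revert m
    decide
  rw [pow_succ, pow_two, ← h.param_add, ← h.param_add, e, h.param_zero]

theorem param_conj (g : G) (m : M3) :
    g * param x1 x2 x3 m * g⁻¹ = param (g * x1 * g⁻¹) (g * x2 * g⁻¹) (g * x3 * g⁻¹) m := by
  unfold param
  rw [← zp_conj, ← zp_conj, ← zp_conj]
  group

theorem a_conj (h : Data H T x1 x2 x3 a b) (m : M3) :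
    a * param x1 x2 x3 m * a⁻¹ = param x1 x2 x3 (sig 1 m) := by
  rw [param_conj, h.ax1, h.ax2, h.ax3]
  unfold param sig sg
  simp only [Matrix.cons_val_one, Matrix.cons_val_zero]
  rw [zp_inv_base h.x1c, zp_inv_base h.x2c, one_mul]

theorem b_conj (h : Data H T x1 x2 x3 a b) (m : M3) :
    b * param x1 x2 x3 m * b⁻¹ = param x1 x2 x3 (sig 2 m) := by
  rw [param_conj, h.bx1, h.bx2, h.bx3]
  unfold param sig sg
  simp only [Matrix.cons_val_two, Matrix.cons_val_zero, Matrix.cons_val_one, Matrix.head_cons,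
    Matrix.tail_cons]
  rw [zp_inv_base h.x1c, zp_inv_base h.x3c, one_mul]

theorem vv_conj (h : Data H T x1 x2 x3 a b) (i : Fin 4) (m : M3) :
    vv a b i * param x1 x2 x3 m * (vv a b i)⁻¹ = param x1 x2 x3 (sig i m) := by
  have hab : ∀ m : M3, sig 1 (sig 2 m) = sig 3 m := by decide
  fin_cases i
  · simp [vv, sig_zero_idx]
  · simpa [vv] using h.a_conj m
  · simpa [vv] using h.b_conj m
  · have e : (a * b) * param x1 x2 x3 m * (a * b)⁻¹ =
        a * (b * param x1 x2 x3 m * b⁻¹) * a⁻¹ := by group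
    show (a * b) * param x1 x2 x3 m * (a * b)⁻¹ = param x1 x2 x3 (sig 3 m)
    rw [e, h.b_conj, h.a_conj, hab]

end Data

end Cfsg.Agent.Lib.Helper6.S3701
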