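import Mathlib
import Cfsg.Agent.Lib.Helper6.S3701.LocalA

/-!
helper6: S3701, part 8: local group theory, II. Normal form in `H`, `T = range param`,
the TI-property, and the number of conjugators between two elements of `T`.
-/

set_option autoImplicit false

namespace Cfsg.Agent.Lib.Helper6.S3701

variable {G : Type*} [Group G]

theorem mem_normalizer_of_conj_mem [Finite G] (Q : Subgroup G) (g : G)
    (h : ∀ s ∈ Q, g * s * g⁻¹ ∈ Q) : g ∈ Subgroup.normalizer (Q : Set G) := by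
  rw [Subgroup.mem_normalizer_iff]
  intro n
  refine ⟨h n, fun hn => ?_⟩
  let φ : Q → Q := fun s => ⟨g * s * g⁻¹, h s s.2⟩
  have hinj : Function.Injective φ := by
    intro s s' e
    apply Subtype.ext
    have := congrArg Subtype.val e
    simpa [φ] using this
  obtain ⟨s, hs⟩ := Finite.surjective_of_injective hinj ⟨_, hn⟩
  have h1 : g * s * g⁻¹ = g * n * g⁻¹ := congrArg Subtype.val hs
  have h2 : (s : G) = n := by simpa using h1
  rw [← h2]
  exact s.2

theorem mulIdx_self : ∀ i : Fin 4, mulIdx i i = 0 := by decide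

theorem mulIdx_eq_zero : ∀ i j : Fin 4, mulIdx i j = 0 → i = j := by decide

/-- the normal form map -/
def nf (x1 x2 x3 a b : G) (p : M3 × Fin 4) : G := param x1 x2 x3 p.1 * vv a b p.2

namespace Data

variable {H T : Subgroup G} {x1 x2 x3 a b : G}

theorem a_inv (h : Data H T x1 x2 x3 a b) : a⁻¹ = a := inv_eq_of_mul_eq_one_left h.a2

theorem b_inv (h : Data H T x1 x2 x3 a b) : b⁻¹ = b := inv_eq_of_mul_eq_one_left h.b2

theorem vv_mul (h : Data H T x1 x2 x3 a b) (i j : Fin 4) :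
    vv a b i * vv a b j = vv a b (mulIdx i j) := by
  have e1 : a * (a * b) = b := by rw [← mul_assoc, h.a2, one_mul]
  have e2 : b * a = a * b := h.ab.symm
  have e3 : b * (a * b) = a := by rw [← mul_assoc, e2, mul_assoc, h.b2, mul_one]
  have e4 : a * b * a = b := by rw [mul_assoc, e2, ← mul_assoc, h.a2, one_mul]
  have e5 : a * b * b = a := by rw [mul_assoc, h.b2, mul_one]
  have e6 : a * b * (a * b) = 1 := by rw [← mul_assoc, e4, h.b2]
  fin_cases i <;> fin_cases j <;> simp [vv, mulIdx, h.a2, h.b2, e1, e2, e3, e4, e5, e6]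

theorem vv_inv (h : Data H T x1 x2 x3 a b) (i : Fin 4) : (vv a b i)⁻¹ = vv a b i := by
  apply inv_eq_of_mul_eq_one_left
  rw [h.vv_mul, mulIdx_self]
  rfl

theorem vv_zero : vv a b 0 = 1 := rfl

theorem vv_mem (h : Data H T x1 x2 x3 a b) (i : Fin 4) : vv a b i ∈ H := by
  fin_cases i
  · exact H.one_mem
  · exact h.aH
  · exact h.bH
  · exact H.mul_mem h.aH h.bH

theorem param_mem (h : Data H T x1 x2 x3 a b) (m : M3) : param x1 x2 x3 m ∈ H := by
  unfold param zp
  exact H.mul_mem (H.mul_mem (H.pow_mem h.x1H _) (H.pow_mem h.x2H _)) (H.pow_mem h.x3H _)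

theorem nf_mem (h : Data H T x1 x2 x3 a b) (p : M3 × Fin 4) : nf x1 x2 x3 a b p ∈ H :=
  H.mul_mem (h.param_mem _) (h.vv_mem _)

theorem nf_mul (h : Data H T x1 x2 x3 a b) (p q : M3 × Fin 4) :
    nf x1 x2 x3 a b p * nf x1 x2 x3 a b q =
      nf x1 x2 x3 a b (p.1 + sig p.2 q.1, mulIdx p.2 q.2) := by
  unfold nf
  simp only
  rw [h.param_add, ← h.vv_conj, ← h.vv_mul]
  group

theorem nf_inv (h : Data H T x1 x2 x3 a b) (p : M3 × Fin 4) :
    (nf x1 x2 x3 a b p)⁻¹ = nf x1 x2 x3 a b (sig p.2 (-p.1), p.2) := by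
  unfold nf
  simp only
  rw [← h.vv_conj, h.param_neg, mul_inv_rev]
  have e := h.vv_inv p.2
  calc (vv a b p.2)⁻¹ * (param x1 x2 x3 p.1)⁻¹
      = vv a b p.2 * (param x1 x2 x3 p.1)⁻¹ * ((vv a b p.2)⁻¹ * vv a b p.2) := by
        rw [inv_mul_cancel, mul_one, e]
    _ = vv a b p.2 * (param x1 x2 x3 p.1)⁻¹ * (vv a b p.2)⁻¹ * vv a b p.2 := by group

theorem exists_nf (h : Data H T x1 x2 x3 a b) {g : G} (hg : g ∈ H) :
    ∃ p : M3 × Fin 4, g = nf x1 x2 x3 a b p := by
  have key : ∀ g ∈ Subgroup.closure ({x1, x2, x3, a, b} : Set G),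
      ∃ p : M3 × Fin 4, g = nf x1 x2 x3 a b p := by
    intro g hg'
    induction hg' using Subgroup.closure_induction with
    | mem x hx =>
      simp only [Set.mem_insert_iff, Set.mem_singleton_iff] at hx
      rcases hx with rfl | rfl | rfl | rfl | rfl
      · exact ⟨((1, 0, 0), 0), by simp [nf, param, zp_zero, zp_one, vv]⟩
      · exact ⟨((0, 1, 0), 0), by simp [nf, param, zp_zero, zp_one, vv]⟩
      · exact ⟨((0, 0, 1), 0), by simp [nf, param, zp_zero, zp_one, vv]⟩
      · exact ⟨(0, 1), by simp [nf, param, zp_zero, vv]⟩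
      · exact ⟨(0, 2), by simp [nf, param, zp_zero, vv]⟩
    | one => exact ⟨(0, 0), by simp [nf, param, zp_zero, vv]⟩
    | mul x y _ _ hx hy =>
      obtain ⟨p, rfl⟩ := hx
      obtain ⟨q, rfl⟩ := hy
      exact ⟨_, h.nf_mul p q⟩
    | inv x _ hx =>
      obtain ⟨p, rfl⟩ := hx
      exact ⟨_, h.nf_inv p⟩
  exact key g (h.gen hg)

theorem x1_ne_inv (h : Data H T x1 x2 x3 a b) : x1⁻¹ ≠ x1 := by
  intro e
  apply h.x1ne
  have h2 : x1 * x1 = 1 := by
    calc x1 * x1 = x1⁻¹ * x1 := by rw [e]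
      _ = 1 := inv_mul_cancel x1
  have h3 := h.x1c
  rw [pow_succ, pow_two, h2, one_mul] at h3
  exact h3

theorem x2_ne_inv (h : Data H T x1 x2 x3 a b) : x2⁻¹ ≠ x2 := by
  intro e
  apply h.x2ne
  have h2 : x2 * x2 = 1 := by
    calc x2 * x2 = x2⁻¹ * x2 := by rw [e]
      _ = 1 := inv_mul_cancel x2
  have h3 := h.x2c
  rw [pow_succ, pow_two, h2, one_mul] at h3
  exact h3

theorem vv_eq_one (h : Data H T x1 x2 x3 a b) (i : Fin 4) (hi : vv a b i = 1) : i = 0 := by
  fin_cases i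
  · rfl
  · exfalso
    have ha : a = 1 := hi
    have := h.ax1
    rw [ha] at this
    apply h.x1_ne_inv
    rw [← this]; group
  · exfalso
    have hb : b = 1 := hi
    have := h.bx1
    rw [hb] at this
    apply h.x1_ne_inv
    rw [← this]; group
  · exfalso
    have hab : a * b = 1 := hi
    have ha : a = b := by
      calc a = a * (b * b) := by rw [h.b2, mul_one]
        _ = (a * b) * b := by group
        _ = b := by rw [hab, one_mul]
    have h1 := h.ax2
    rw [ha, h.bx2] at h1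
    exact h.x2_ne_inv h1.symm

theorem vv_of_mem_range (h : Data H T x1 x2 x3 a b) (i : Fin 4) (m : M3)
    (hi : vv a b i = param x1 x2 x3 m) : i = 0 := by
  apply h.vv_eq_one
  have h2 : vv a b i * vv a b i = 1 := by rw [h.vv_mul, mulIdx_self]; rfl
  have h3 : vv a b i ^ 3 = 1 := by rw [hi, h.param_cube]
  rw [pow_succ, pow_two, h2, one_mul] at h3
  exact h3

theorem nf_sq (h : Data H T x1 x2 x3 a b) (p : M3 × Fin 4) :
    nf x1 x2 x3 a b p * nf x1 x2 x3 a b p = nf x1 x2 x3 a b (p.1 + sig p.2 p.1, 0) := by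
  rw [h.nf_mul, mulIdx_self]

theorem nf_odd_pow (h : Data H T x1 x2 x3 a b) (p : M3 × Fin 4) (n : ℕ) :
    ∃ m : M3, nf x1 x2 x3 a b p ^ (2 * n + 1) = nf x1 x2 x3 a b (m, p.2) := by
  induction n with
  | zero => exact ⟨p.1, by simp⟩
  | succ n ih =>
    obtain ⟨m, hm⟩ := ih
    refine ⟨m + sig p.2 (p.1 + sig p.2 p.1), ?_⟩
    have e : 2 * (n + 1) + 1 = (2 * n + 1) + 2 := by ring
    rw [e, pow_add, hm, pow_two, h.nf_sq, h.nf_mul]
    have : mulIdx p.2 0 = p.2 := by
      generalize p.2 = i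
      revert i
      decide
    simp only [this]

theorem snd_eq_zero_of_odd_pow (h : Data H T x1 x2 x3 a b) (p : M3 × Fin 4) (n : ℕ)
    (hp : nf x1 x2 x3 a b p ^ (2 * n + 1) = 1) : p.2 = 0 := by
  obtain ⟨m, hm⟩ := h.nf_odd_pow p n
  rw [hp] at hm
  unfold nf at hm
  simp only at hm
  apply h.vv_of_mem_range p.2 (-m)
  rw [h.param_neg]
  exact (eq_inv_of_mul_eq_one_right hm.symm)

end Data

end Cfsg.Agent.Lib.Helper6.S3701
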