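import Mathlib
import Cfsg.Agent.Lib.Helper6.S3701.LocalB

/-!
helper6: S3701, part 9: local group theory, III. `T = range param`, injectivity, TI-property,
conjugator counts, `|H| = 108`.
-/

set_option autoImplicit false

namespace Cfsg.Agent.Lib.Helper6.S3701

variable {G : Type*} [Group G]

namespace Data

variable {H T : Subgroup G} {x1 x2 x3 a b : G}

theorem mem_range_of_odd_pow (h : Data H T x1 x2 x3 a b) {g : G} (hg : g ∈ H) (n : ℕ)
    (hp : g ^ (2 * n + 1) = 1) : ∃ m : M3, g = param x1 x2 x3 m := by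
  obtain ⟨p, rfl⟩ := h.exists_nf hg
  have h0 := h.snd_eq_zero_of_odd_pow p n hp
  refine ⟨p.1, ?_⟩
  unfold nf
  rw [h0]
  simp [vv]

theorem T_subset_range [Finite G] (h : Data H T x1 x2 x3 a b) {t : G} (ht : t ∈ T) :
    ∃ m : M3, t = param x1 x2 x3 m := by
  apply h.mem_range_of_odd_pow (h.TH ht) 13
  have h1 : (⟨t, ht⟩ : T) ^ Nat.card T = 1 := pow_card_eq_one'
  rw [h.cardT] at h1
  have := congrArg Subtype.val h1
  simpa using this

theorem range_facts [Finite G] (h : Data H T x1 x2 x3 a b) :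
    Function.Injective (param x1 x2 x3) ∧ ∀ m : M3, param x1 x2 x3 m ∈ T := by
  classical
  have hsub : (T : Set G) ⊆ ↑(Finset.univ.image (param x1 x2 x3)) := by
    intro t ht
    obtain ⟨m, hm⟩ := h.T_subset_range ht
    rw [Finset.coe_image, Finset.coe_univ, Set.image_univ]
    exact ⟨m, hm.symm⟩
  have hcT : (T : Set G).ncard = 27 := by
    rw [← h.cardT]
    exact (Nat.card_coe_set_eq (T : Set G))
  have hle := Set.ncard_le_ncard hsub (Finset.finite_toSet _)
  rw [Set.ncard_coe_finset, hcT] at hle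
  have hle2 : (Finset.univ.image (param x1 x2 x3)).card ≤ 27 := by
    have := Finset.card_image_le (s := (Finset.univ : Finset M3)) (f := param x1 x2 x3)
    have hc : (Finset.univ : Finset M3).card = 27 := by rfl
    rwa [hc] at this
  have hcard : (Finset.univ.image (param x1 x2 x3)).card = (Finset.univ : Finset M3).card := by
    have hc : (Finset.univ : Finset M3).card = 27 := by rfl
    rw [hc]
    omega
  have hinj : Function.Injective (param x1 x2 x3) := by
    have := Finset.card_image_iff.mp hcard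
    intro m m' e
    exact this (Finset.mem_coe.mpr (Finset.mem_univ _)) (Finset.mem_coe.mpr (Finset.mem_univ _)) e
  refine ⟨hinj, ?_⟩
  have heq : (T : Set G) = ↑(Finset.univ.image (param x1 x2 x3)) := by
    apply Set.eq_of_subset_of_ncard_le hsub _ (Finset.finite_toSet _)
    rw [Set.ncard_coe_finset, hcT]
    exact hle2
  intro m
  have : param x1 x2 x3 m ∈ (↑(Finset.univ.image (param x1 x2 x3)) : Set G) := by
    rw [Finset.coe_image, Finset.coe_univ, Set.image_univ]
    exact ⟨m, rfl⟩
  rw [← heq] at this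
  exact this

theorem param_injective [Finite G] (h : Data H T x1 x2 x3 a b) :
    Function.Injective (param x1 x2 x3) := h.range_facts.1

theorem param_mem_T [Finite G] (h : Data H T x1 x2 x3 a b) (m : M3) : param x1 x2 x3 m ∈ T :=
  h.range_facts.2 m

theorem mem_T_of_cube [Finite G] (h : Data H T x1 x2 x3 a b) {g : G} (hg : g ∈ H)
    (h3 : g ^ 3 = 1) : g ∈ T := by
  obtain ⟨m, rfl⟩ := h.mem_range_of_odd_pow hg 1 (by simpa using h3)
  exact h.param_mem_T m

theorem param_ne_one [Finite G] (h : Data H T x1 x2 x3 a b) {m : M3} (hm : m ≠ 0) :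
    param x1 x2 x3 m ≠ 1 := by
  intro e
  apply hm
  apply h.param_injective
  rw [e, h.param_zero]

/-- the TI-property -/
theorem ti [Finite G] (h : Data H T x1 x2 x3 a b) (g t : G) (ht : t ∈ T) (ht1 : t ≠ 1)
    (hg : g * t * g⁻¹ ∈ T) : g ∈ H := by
  rw [← h.norm]
  apply mem_normalizer_of_conj_mem
  intro s hs
  have hgt1 : g * t * g⁻¹ ≠ 1 := by
    intro e
    apply ht1
    have : t = g⁻¹ * (g * t * g⁻¹) * g := by group
    rw [this, e]; group
  obtain ⟨ms, rfl⟩ := h.T_subset_range hs
  obtain ⟨mt, rfl⟩ := h.T_subset_range ht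
  have hc : g * param x1 x2 x3 ms * g⁻¹ ∈ Subgroup.centralizer ({g * param x1 x2 x3 mt * g⁻¹} : Set G) := by
    rw [Subgroup.mem_centralizer_singleton_iff]
    have e := h.param_comm ms mt
    calc g * param x1 x2 x3 ms * g⁻¹ * (g * param x1 x2 x3 mt * g⁻¹)
        = g * (param x1 x2 x3 ms * param x1 x2 x3 mt) * g⁻¹ := by group
      _ = g * (param x1 x2 x3 mt * param x1 x2 x3 ms) * g⁻¹ := by rw [e]
      _ = g * param x1 x2 x3 mt * g⁻¹ * (g * param x1 x2 x3 ms * g⁻¹) := by group
  have hH := h.cent _ hg hgt1 hc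
  apply h.mem_T_of_cube hH
  rw [conj_pow, h.param_cube]
  group

theorem nf_injective [Finite G] (h : Data H T x1 x2 x3 a b) :
    Function.Injective (nf x1 x2 x3 a b) := by
  intro p q e
  unfold nf at e
  have e1 : vv a b (mulIdx p.2 q.2) = param x1 x2 x3 (-p.1 + q.1) := by
    rw [← h.vv_mul, h.param_add, h.param_neg]
    have e2 : vv a b p.2 = (param x1 x2 x3 p.1)⁻¹ * (param x1 x2 x3 q.1 * vv a b q.2) := by
      rw [← e]; group
    rw [e2]
    have e3 : vv a b q.2 * vv a b q.2 = 1 := by rw [h.vv_mul, mulIdx_self]; rfl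
    calc (param x1 x2 x3 p.1)⁻¹ * (param x1 x2 x3 q.1 * vv a b q.2) * vv a b q.2
        = (param x1 x2 x3 p.1)⁻¹ * param x1 x2 x3 q.1 * (vv a b q.2 * vv a b q.2) := by group
      _ = (param x1 x2 x3 p.1)⁻¹ * param x1 x2 x3 q.1 := by rw [e3, mul_one]
  have h0 := h.vv_of_mem_range _ _ e1
  have h2 : p.2 = q.2 := mulIdx_eq_zero _ _ h0
  rw [h2] at e
  have h1 : p.1 = q.1 := h.param_injective (mul_right_cancel e)
  exact Prod.ext h1 h2

/-- `|H| = 108` -/
theorem card_H [Finite G] (h : Data H T x1 x2 x3 a b) : Nat.card H = 108 := by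
  have e : (M3 × Fin 4) ≃ H :=
    Equiv.ofBijective (fun p => ⟨nf x1 x2 x3 a b p, h.nf_mem p⟩) (by
      constructor
      · intro p q e
        exact h.nf_injective (congrArg Subtype.val e)
      · rintro ⟨g, hg⟩
        obtain ⟨p, rfl⟩ := h.exists_nf hg
        exact ⟨p, rfl⟩)
  rw [← Nat.card_congr e, Nat.card_eq_fintype_card]
  rfl

/-- conjugation of `param y` by an element in normal form -/
theorem nf_conj (h : Data H T x1 x2 x3 a b) (p : M3 × Fin 4) (y : M3) :
    nf x1 x2 x3 a b p * param x1 x2 x3 y * (nf x1 x2 x3 a b p)⁻¹ = param x1 x2 x3 (sig p.2 y) := by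
  unfold nf
  have e : param x1 x2 x3 p.1 * vv a b p.2 * param x1 x2 x3 y * (param x1 x2 x3 p.1 * vv a b p.2)⁻¹ =
      param x1 x2 x3 p.1 * (vv a b p.2 * param x1 x2 x3 y * (vv a b p.2)⁻¹) *
        (param x1 x2 x3 p.1)⁻¹ := by group
  rw [e, h.vv_conj, h.param_comm]
  group

/-- the number of elements conjugating `param y` to `param y'` -/
theorem card_conjugators [Finite G] (h : Data H T x1 x2 x3 a b) (y y' : M3) (hy : y ≠ 0) :
    Nat.card {g : G // g * param x1 x2 x3 y * g⁻¹ = param x1 x2 x3 y'} =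
      27 * (Finset.univ.filter (fun i : Fin 4 => sig i y = y')).card := by
  classical
  have e : {p : M3 × Fin 4 // sig p.2 y = y'} ≃
      {g : G // g * param x1 x2 x3 y * g⁻¹ = param x1 x2 x3 y'} :=
    Equiv.ofBijective (fun p => ⟨nf x1 x2 x3 a b p.1, by rw [h.nf_conj, p.2]⟩) (by
      constructor
      · intro p q e
        apply Subtype.ext
        exact h.nf_injective (congrArg Subtype.val e)
      · rintro ⟨g, hg⟩
        have hgH : g ∈ H := by
          apply h.ti g (param x1 x2 x3 y) (h.param_mem_T y) (h.param_ne_one hy)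
          rw [hg]
          exact h.param_mem_T y'
        obtain ⟨p, rfl⟩ := h.exists_nf hgH
        rw [h.nf_conj] at hg
        exact ⟨⟨p, h.param_injective hg⟩, rfl⟩)
  rw [← Nat.card_congr e, Nat.card_eq_fintype_card, Fintype.card_subtype]
  have : (Finset.univ.filter (fun p : M3 × Fin 4 => sig p.2 y = y')) =
      (Finset.univ : Finset M3) ×ˢ (Finset.univ.filter (fun i : Fin 4 => sig i y = y')) := by
    ext p
    simp
  rw [this, Finset.card_product]
  rfl

end Data

end Cfsg.Agent.Lib.Helper6.S3701
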