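import Mathlib
import Cfsg.Agent.Lib.Helper13.S3805LocG
import Cfsg.Agent.Lib.Helper6.S3701.LocalC
import Cfsg.Agent.Lib.Helper6.S3701.Vals

/-!
helper6: S3701, part 10: local group theory, IV. Lemma Delta (after helper13's `S3341Leaf.delta`),
fusion in `T`, and the local class multiplication constant `(x1, x2 → z)`.
-/

set_option autoImplicit false

namespace Cfsg.Agent.Lib.Helper6.S3701

open Cfsg.Agent.Lib.Helper13.S3805Loc

variable {G : Type*} [Group G] [Finite G]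

namespace Data

variable {H T : Subgroup G} {x1 x2 x3 a b : G}

theorem cube_of_mem_T (h : Data H T x1 x2 x3 a b) {t : G} (ht : t ∈ T) : t ^ 3 = 1 := by
  obtain ⟨m, rfl⟩ := h.T_subset_range ht
  exact h.param_cube m

theorem T_comm (h : Data H T x1 x2 x3 a b) {s t : G} (hs : s ∈ T) (ht : t ∈ T) :
    s * t = t * s := by
  obtain ⟨m, rfl⟩ := h.T_subset_range hs
  obtain ⟨m', rfl⟩ := h.T_subset_range ht
  exact h.param_comm m m'

/-- Lemma Delta, one-sided form -/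
theorem delta_aux (h : Data H T x1 x2 x3 a b) (p q z : G) (hp : p ^ 3 = 1) (hq : q ^ 3 = 1)
    (hpq : p * q = z) (hz : z ∈ T) (hz1 : z ≠ 1) : (p ∈ T ∧ q ∈ T) ∨ IsConj p z⁻¹ := by
  classical
  subst hpq
  have htri : Tri p q := ⟨hp, hq, h.cube_of_mem_T hz⟩
  have hzact : ∀ k ∈ Tri.K p q, (p * q) * k * (p * q)⁻¹ = p⁻¹ * k * p := by
    intro k hk
    have hc := htri.comm _ htri.kappa_mem _ (htri.tau_mem k hk)
    calc (p * q) * k * (p * q)⁻¹ = (p * q * p) * (p⁻¹ * k * p) * (p * q * p)⁻¹ := by group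
      _ = (p⁻¹ * k * p) * (p * q * p) * (p * q * p)⁻¹ := by rw [hc]
      _ = p⁻¹ * k * p := by group
  have htau2 : ∀ k : G, p⁻¹ * (p⁻¹ * k * p) * p = p * k * p⁻¹ := by
    intro k
    rw [htri.tau_eq (p⁻¹ * k * p)]; group
  by_cases hex : ∃ k ∈ Tri.K p q, k ≠ 1 ∧ k ^ 3 = 1
  · left
    obtain ⟨k, hk, hk1, hk3⟩ := hex
    have hk0 : ∃ k0 ∈ Tri.K p q, k0 ≠ 1 ∧ k0 ^ 3 = 1 ∧ p⁻¹ * k0 * p = k0 := by
      by_cases hfix : p⁻¹ * k * p = k
      · exact ⟨k, hk, hk1, hk3, hfix⟩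
      · have hu := htri.tau_mem k hk
        have hu3 : (p⁻¹ * k * p) ^ 3 = 1 := by
          have : (p⁻¹ * k * p) ^ 3 = p⁻¹ * k ^ 3 * p := by
            rw [pow_succ, pow_two, pow_succ, pow_two]; group
          rw [this, hk3]; group
        have hc : Commute k⁻¹ (p⁻¹ * k * p) := htri.comm _ ((Tri.K p q).inv_mem hk) _ hu
        refine ⟨k⁻¹ * (p⁻¹ * k * p), (Tri.K p q).mul_mem ((Tri.K p q).inv_mem hk) hu, ?_, ?_, ?_⟩
        · intro he
          apply hfix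
          exact (eq_of_inv_mul_eq_one he).symm
        · rw [hc.mul_pow, inv_pow, hk3, inv_one, one_mul, hu3]
        · have hn := htri.norm k hk
          have hw : p * k * p⁻¹ = (p⁻¹ * k * p)⁻¹ * k⁻¹ := by
            have := eq_inv_of_mul_eq_one_right hn
            rw [this, mul_inv_rev]
          have huu : (p⁻¹ * k * p)⁻¹ * (p⁻¹ * k * p)⁻¹ = p⁻¹ * k * p := by
            have e1 : (p⁻¹ * k * p) * (p⁻¹ * k * p) * (p⁻¹ * k * p) = 1 := by
              rw [← hu3, pow_succ, pow_two]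
            have e2 := eq_inv_of_mul_eq_one_left e1
            rw [← mul_inv_rev, ← inv_inv (p⁻¹ * k * p * (p⁻¹ * k * p))]
            rw [e2, inv_inv, inv_inv]
          calc p⁻¹ * (k⁻¹ * (p⁻¹ * k * p)) * p
              = (p⁻¹ * k * p)⁻¹ * (p⁻¹ * (p⁻¹ * k * p) * p) := by group
            _ = (p⁻¹ * k * p)⁻¹ * ((p⁻¹ * k * p)⁻¹ * k⁻¹) := by rw [htau2, hw]
            _ = ((p⁻¹ * k * p)⁻¹ * (p⁻¹ * k * p)⁻¹) * k⁻¹ := by group
            _ = (p⁻¹ * k * p) * k⁻¹ := by rw [huu]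
            _ = k⁻¹ * (p⁻¹ * k * p) := hc.eq.symm
    obtain ⟨k0, hk0K, hk01, hk03, hk0fix⟩ := hk0
    have hk0z : (p * q) * k0 * (p * q)⁻¹ = k0 := by rw [hzact k0 hk0K, hk0fix]
    -- `k0 ∈ C(z) ≤ H`, a 3-element, so `k0 ∈ T`
    have hk0H : k0 ∈ H := by
      apply h.cent _ hz hz1
      rw [Subgroup.mem_centralizer_singleton_iff]
      calc k0 * (p * q) = (p * q) * k0 * (p * q)⁻¹ * (p * q) := by rw [hk0z]
        _ = (p * q) * k0 := by group
    have hk0T : k0 ∈ T := h.mem_T_of_cube hk0H hk03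
    -- `p k0 p⁻¹ ∈ K` commutes with `k0`, so it lies in `T`
    have hpk : p * k0 * p⁻¹ ∈ Tri.K p q := htri.sig_mem k0 hk0K
    have hpkH : p * k0 * p⁻¹ ∈ H := by
      apply h.cent k0 hk0T hk01
      rw [Subgroup.mem_centralizer_singleton_iff]
      exact htri.comm _ hpk _ hk0K
    have hpk3 : (p * k0 * p⁻¹) ^ 3 = 1 := by rw [conj_pow, hk03]; group
    have hpkT : p * k0 * p⁻¹ ∈ T := h.mem_T_of_cube hpkH hpk3
    have hpH : p ∈ H := h.ti p k0 hk0T hk01 hpkT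
    have hpT : p ∈ T := h.mem_T_of_cube hpH hp
    refine ⟨hpT, ?_⟩
    have : q = p⁻¹ * (p * q) := by group
    rw [this]
    exact T.mul_mem (T.inv_mem hpT) hz
  · right
    push Not at hex
    have hex' : ∀ k ∈ Tri.K p q, k ^ 3 = 1 → k = 1 := by
      intro k hk hk3
      by_contra hne
      exact hex k hk hne hk3
    let φ : ↥(Tri.K p q) → ↥(Tri.K p q) := fun k =>
      ⟨k.1 * (p⁻¹ * k.1⁻¹ * p), (Tri.K p q).mul_mem k.2
        (htri.tau_mem _ ((Tri.K p q).inv_mem k.2))⟩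
    have hinj : Function.Injective φ := by
      rintro ⟨h1, hh1⟩ ⟨h2, hh2⟩ he
      have he' : h1 * (p⁻¹ * h1⁻¹ * p) = h2 * (p⁻¹ * h2⁻¹ * p) := congrArg Subtype.val he
      have hd : h2⁻¹ * h1 ∈ Tri.K p q := (Tri.K p q).mul_mem ((Tri.K p q).inv_mem hh2) hh1
      have hfix : p⁻¹ * (h2⁻¹ * h1) * p = h2⁻¹ * h1 := by
        calc p⁻¹ * (h2⁻¹ * h1) * p = (p⁻¹ * h2⁻¹ * p) * (p⁻¹ * h1⁻¹ * p)⁻¹ := by group
          _ = h2⁻¹ * (h2 * (p⁻¹ * h2⁻¹ * p)) * (p⁻¹ * h1⁻¹ * p)⁻¹ := by group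
          _ = h2⁻¹ * (h1 * (p⁻¹ * h1⁻¹ * p)) * (p⁻¹ * h1⁻¹ * p)⁻¹ := by rw [he']
          _ = h2⁻¹ * h1 := by group
      have hfix' : p * (h2⁻¹ * h1) * p⁻¹ = h2⁻¹ * h1 := by
        nth_rewrite 1 [← hfix]; group
      have hn := htri.norm _ hd
      rw [hfix, hfix'] at hn
      have hd3 : (h2⁻¹ * h1) ^ 3 = 1 := by rw [pow_succ, pow_two]; exact hn
      have hd1 := hex' _ hd hd3
      apply Subtype.ext
      exact (eq_of_inv_mul_eq_one hd1).symm
    have hsurj : Function.Surjective φ := Finite.surjective_of_injective hinj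
    obtain ⟨⟨h', hh'⟩, hφ⟩ := hsurj ⟨p * q * p, htri.kappa_mem⟩
    have hφ' : h' * (p⁻¹ * h'⁻¹ * p) = p * q * p := congrArg Subtype.val hφ
    rw [isConj_iff]
    refine ⟨h', ?_⟩
    have e1 : p * q = h' * p⁻¹ * h'⁻¹ := by
      calc p * q = (p * q * p) * p⁻¹ := by group
        _ = h' * (p⁻¹ * h'⁻¹ * p) * p⁻¹ := by rw [hφ']
        _ = h' * p⁻¹ * h'⁻¹ := by group
    rw [e1]; group

/-- Lemma Delta -/
theorem delta (h : Data H T x1 x2 x3 a b) (p q z : G) (hp : p ^ 3 = 1) (hq : q ^ 3 = 1)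
    (hpq : p * q = z) (hz : z ∈ T) (hz1 : z ≠ 1) :
    (p ∈ T ∧ q ∈ T) ∨ (IsConj p z⁻¹ ∧ IsConj q z⁻¹) := by
  rcases h.delta_aux p q z hp hq hpq hz hz1 with h1 | h1
  · exact Or.inl h1
  · have hq' : q⁻¹ ^ 3 = 1 := by rw [inv_pow, hq, inv_one]
    have hp' : p⁻¹ ^ 3 = 1 := by rw [inv_pow, hp, inv_one]
    have hqp : q⁻¹ * p⁻¹ = z⁻¹ := by rw [← hpq, mul_inv_rev]
    have hz' : z⁻¹ ≠ 1 := by simpa using hz1
    rcases h.delta_aux q⁻¹ p⁻¹ z⁻¹ hq' hp' hqp (T.inv_mem hz) hz' with h2 | h2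
    · left
      exact ⟨by simpa using T.inv_mem h2.2, by simpa using T.inv_mem h2.1⟩
    · right
      refine ⟨h1, ?_⟩
      rw [inv_inv] at h2
      rw [isConj_iff] at h2 ⊢
      obtain ⟨c, hc⟩ := h2
      refine ⟨c, ?_⟩
      have : c * q * c⁻¹ = (c * q⁻¹ * c⁻¹)⁻¹ := by group
      rw [this, hc]

/-- fusion in `T` -/
theorem isConj_param_iff (h : Data H T x1 x2 x3 a b) (m m' : M3) (hm : m ≠ 0) :
    IsConj (param x1 x2 x3 m) (param x1 x2 x3 m') ↔ ∃ i : Fin 4, sig i m = m' := by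
  constructor
  · intro hc
    rw [isConj_iff] at hc
    obtain ⟨c, hc⟩ := hc
    have hcard := h.card_conjugators m m' hm
    have hpos : 0 < Nat.card {g : G // g * param x1 x2 x3 m * g⁻¹ = param x1 x2 x3 m'} := by
      haveI : Nonempty {g : G // g * param x1 x2 x3 m * g⁻¹ = param x1 x2 x3 m'} := ⟨⟨c, hc⟩⟩
      exact Nat.card_pos
    rw [hcard] at hpos
    have hpos' : 0 < (Finset.univ.filter (fun i : Fin 4 => sig i m = m')).card := by
      by_contra hh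
      have : (Finset.univ.filter (fun i : Fin 4 => sig i m = m')).card = 0 := by omega
      rw [this] at hpos
      omega
    obtain ⟨i, hi⟩ := Finset.card_pos.mp hpos'
    exact ⟨i, (Finset.mem_filter.mp hi).2⟩
  · rintro ⟨i, rfl⟩
    rw [isConj_iff]
    exact ⟨vv a b i, h.vv_conj i m⟩

theorem param_e1 : param x1 x2 x3 ((1, 0, 0) : M3) = x1 := by
  simp [param, zp_zero, zp_one]

theorem param_e2 : param x1 x2 x3 ((0, 1, 0) : M3) = x2 := by
  simp [param, zp_zero, zp_one]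

theorem local_dec1 : ∀ i j : Fin 4,
    -(sig i ((1, 0, 0) : M3) + sig j ((0, 1, 0) : M3)) ∈ B3 ∧
      sig i ((1, 0, 0) : M3) =
        (-(-(sig i ((1, 0, 0) : M3) + sig j ((0, 1, 0) : M3))).1, 0, 0) := by decide

theorem local_dec2 : ∀ y ∈ B3, (∃ i : Fin 4, sig i ((1, 0, 0) : M3) = (-y.1, 0, 0)) ∧
    (∃ j : Fin 4, sig j ((0, 1, 0) : M3) = -((-y.1, 0, 0) : M3) + -y) := by decide

theorem local_dec3 : ¬ ∃ i : Fin 4, sig i ((1, 0, 0) : M3) = ((0, 1, 0) : M3) := by decide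

/-- the local class multiplication constant -/
theorem local_count (h : Data H T x1 x2 x3 a b) (y : M3) (hy : y ≠ 0) :
    Nat.card {s : G // IsConj x1 s ∧ IsConj x2 (s⁻¹ * param x1 x2 x3 (-y))} =
      if y ∈ B3 then 1 else 0 := by
  classical
  have hny : -y ≠ 0 := by simpa using hy
  have he1 : ((1, 0, 0) : M3) ≠ 0 := by decide
  have he2 : ((0, 1, 0) : M3) ≠ 0 := by decide
  have key : ∀ s : G, (IsConj x1 s ∧ IsConj x2 (s⁻¹ * param x1 x2 x3 (-y))) ↔
      (y ∈ B3 ∧ s = param x1 x2 x3 (-y.1, 0, 0)) := by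
    intro s
    constructor
    · rintro ⟨hs1, hs2⟩
      have hs3 : s ^ 3 = 1 := by
        obtain ⟨c, rfl⟩ := isConj_iff.mp hs1
        rw [conj_pow, h.x1c]; group
      have hq3 : (s⁻¹ * param x1 x2 x3 (-y)) ^ 3 = 1 := by
        obtain ⟨c, hc⟩ := isConj_iff.mp hs2
        rw [← hc, conj_pow, h.x2c]; group
      have hprod : s * (s⁻¹ * param x1 x2 x3 (-y)) = param x1 x2 x3 (-y) := by group
      rcases h.delta s _ _ hs3 hq3 hprod (h.param_mem_T _) (h.param_ne_one hny) with hA | hB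
      · obtain ⟨ms, rfl⟩ := h.T_subset_range hA.1
        obtain ⟨mq, hmq⟩ := h.T_subset_range hA.2
        have hs1' : IsConj (param x1 x2 x3 ((1, 0, 0) : M3)) (param x1 x2 x3 ms) := by
          rw [param_e1]; exact hs1
        have hs2' : IsConj (param x1 x2 x3 ((0, 1, 0) : M3)) (param x1 x2 x3 mq) := by
          rw [param_e2, ← hmq]; exact hs2
        obtain ⟨i, hi⟩ := (h.isConj_param_iff _ _ he1).mp hs1'
        obtain ⟨j, hj⟩ := (h.isConj_param_iff _ _ he2).mp hs2'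
        have hsum : ms + mq = -y := by
          apply h.param_injective
          rw [h.param_add, ← hmq]
          group
        have hy' : y = -(sig i ((1, 0, 0) : M3) + sig j ((0, 1, 0) : M3)) := by
          rw [hi, hj, hsum, neg_neg]
        have hd := local_dec1 i j
        rw [← hy', hi] at hd
        exact ⟨hd.1, by rw [hd.2]⟩
      · exfalso
        have hc : IsConj x1 x2 := hs1.trans (hB.1.trans (hB.2.symm.trans hs2.symm))
        have hc' : IsConj (param x1 x2 x3 ((1, 0, 0) : M3)) (param x1 x2 x3 ((0, 1, 0) : M3)) := by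
          rw [param_e1, param_e2]; exact hc
        exact local_dec3 ((h.isConj_param_iff _ _ he1).mp hc')
    · rintro ⟨hB, rfl⟩
      obtain ⟨⟨i, hi⟩, ⟨j, hj⟩⟩ := local_dec2 y hB
      constructor
      · have := (h.isConj_param_iff _ _ he1).mpr ⟨i, hi⟩
        rwa [param_e1] at this
      · rw [← h.param_neg, ← h.param_add]
        have := (h.isConj_param_iff _ _ he2).mpr ⟨j, hj⟩
        rwa [param_e2] at this
  rw [Nat.card_congr (Equiv.subtypeEquivRight key)]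
  by_cases hB : y ∈ B3
  · rw [if_pos hB]
    have e : {s : G // y ∈ B3 ∧ s = param x1 x2 x3 (-y.1, 0, 0)} ≃ Unit :=
      { toFun := fun _ => ()
        invFun := fun _ => ⟨_, hB, rfl⟩
        left_inv := by rintro ⟨s, _, rfl⟩; rfl
        right_inv := fun _ => rfl }
    rw [Nat.card_congr e]
    simp
  · rw [if_neg hB]
    have : IsEmpty {s : G // y ∈ B3 ∧ s = param x1 x2 x3 (-y.1, 0, 0)} := ⟨fun s => hB s.2.1⟩
    exact Nat.card_of_isEmpty

end Data

end Cfsg.Agent.Lib.Helper6.S3701
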