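import Mathlib
import Cfsg.Agent.Lib.Lead.CharMain
import Cfsg.Agent.Lib.Lead.CharDecomp
import Cfsg.Agent.Lib.Lead.CharEquiv
import Cfsg.Agent.Lib.Helper24.Ord4320Cnt
import Cfsg.Agent.Lib.Helper6.S3701.Core
import Cfsg.Agent.Lib.Helper6.S3701.LocalD

/-!
helper6: S3701, part 12: the bridge from the group `G` with `Data` to the arithmetic core:
`|G| = 108`.
-/

set_option autoImplicit false
set_option maxHeartbeats 1000000

namespace Cfsg.Agent.Lib.Helper6.S3701

open Cfsg Cfsg.Agent.CharLib Cfsg.Agent.Lib.Helper24 Cfsg.Agent.Lib.Helper24.Ord4320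
  Cfsg.Agent.Lib.Helper6
open scoped ComplexConjugate

variable {G : Type*} [Group G]

/-- the class indicator times the centralizer order counts conjugators -/
theorem classIndicator_mul_card [Finite G] (g h : G) :
    classIndicator h g * (Nat.card (Subgroup.centralizer ({h} : Set G)) : ℂ) =
      (Nat.card {c : G // c * g * c⁻¹ = h} : ℂ) := by
  classical
  unfold classIndicator
  by_cases hc : IsConj g h
  · simp only [if_pos hc, one_mul]
    obtain ⟨c0, hc0⟩ := isConj_iff.mp hc
    have e : {c : G // c * g * c⁻¹ = h} ≃ ↥(Subgroup.centralizer ({h} : Set G)) :=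
      { toFun := fun c => ⟨c.1 * c0⁻¹, by
          rw [Subgroup.mem_centralizer_singleton_iff]
          have h1 := c.2
          calc c.1 * c0⁻¹ * h = c.1 * c0⁻¹ * (c0 * g * c0⁻¹) := by rw [hc0]
            _ = (c.1 * g * c.1⁻¹) * (c.1 * c0⁻¹) := by group
            _ = h * (c.1 * c0⁻¹) := by rw [h1]⟩
        invFun := fun z => ⟨z.1 * c0, by
          have hz := Subgroup.mem_centralizer_singleton_iff.mp z.2
          calc z.1 * c0 * g * (z.1 * c0)⁻¹ = z.1 * (c0 * g * c0⁻¹) * z.1⁻¹ := by group
            _ = z.1 * h * z.1⁻¹ := by rw [hc0]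
            _ = h * z.1 * z.1⁻¹ := by rw [hz]
            _ = h := by group⟩
        left_inv := fun c => by
          apply Subtype.ext
          simp
        right_inv := fun z => by
          apply Subtype.ext
          simp }
    rw [Nat.card_congr e]
  · simp only [if_neg hc, zero_mul]
    have : IsEmpty {c : G // c * g * c⁻¹ = h} :=
      ⟨fun c => hc (isConj_iff.mpr ⟨c.1, c.2⟩)⟩
    rw [Nat.card_of_isEmpty]
    simp

theorem sig_fix_e1 : (Finset.univ.filter (fun i : Fin 4 => sig i ((1, 0, 0) : M3) = (1, 0, 0))).card = 2 := by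
  decide

theorem sig_fix_e2 : (Finset.univ.filter (fun i : Fin 4 => sig i ((0, 1, 0) : M3) = (0, 1, 0))).card = 2 := by
  decide

theorem card_eq_108 [Finite G] {H T : Subgroup G} {x1 x2 x3 a b : G}
    (h : Data H T x1 x2 x3 a b) : Nat.card G = 108 := by
  classical
  letI : Fintype G := Fintype.ofFinite G
  letI : Fintype (IrrCharacter G) := fintypeIrr G
  let ph : A3 →* G :=
    { toFun := fun y => param x1 x2 x3 (Multiplicative.toAdd y)
      map_one' := h.param_zero
      map_mul' := fun y y' => h.param_add _ _ }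
  have hph : ∀ y : A3, ph y = param x1 x2 x3 (Multiplicative.toAdd y) := fun y => rfl
  let X : IrrCharacter G → A3 → ℂ := fun χ y => (χ : G → ℂ) (ph y)
  let d : IrrCharacter G → ℕ := fun χ => charDegree (χ : G → ℂ)
  have hX1 : ∀ χ, X χ 1 = d χ := by
    intro χ
    simp only [X, map_one]
    exact irr_apply_one χ
  have hd : ∀ χ, 0 < d χ := fun χ => irr_charDegree_pos χ
  have hnat : ∀ χ (ψ : A3 →* ℂˣ), ∃ n : ℕ, multP (X χ) ψ = n := by
    intro χ ψ
    obtain ⟨n, hn⟩ := IsCharacter.classInner_nat
      (IsCharacter.comp_hom (IsIrrCharacter.isCharacter χ.2) ph) (isCharacter_of_hom ψ)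
    refine ⟨n, ?_⟩
    rw [← hn]
    unfold multP classInner
    rw [Nat.card_eq_fintype_card]
    rfl
  have hne : ∀ y : A3, y ≠ 1 → Multiplicative.toAdd y ≠ 0 := by
    intro y hy h0
    exact hy (congrArg Multiplicative.ofAdd h0)
  have horth : ∀ y y' : A3, y ≠ 1 → y' ≠ 1 → ∑ χ, X χ y * conj (X χ y') =
      27 * ∑ i : Fin 4, if y' = bet i y then 1 else 0 := by
    intro y y' hy _
    simp only [X]
    rw [sum_irr_mul_conj, classIndicator_mul_card, hph, hph,
      h.card_conjugators _ _ (hne y hy)]
    push_cast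
    congr 1
    rw [Finset.sum_boole]
    congr 2
    apply Finset.filter_congr
    intro i _
    rw [bet_apply]
    constructor
    · intro e
      rw [e]
      rfl
    · intro e
      have := congrArg Multiplicative.toAdd e
      simpa using this.symm
  have horth1 : ∀ y : A3, y ≠ 1 → ∑ χ, (d χ : ℂ) * X χ y = 0 := by
    intro y hy
    have h1 := sum_irr_mul_conj (G := G) (ph y) 1
    have hnc : ¬ IsConj (ph y) 1 := by
      rw [isConj_one_left]
      rw [hph]
      exact h.param_ne_one (hne y hy)
    have h2 : classIndicator (1 : G) (ph y) = 0 := by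
      unfold classIndicator
      rw [if_neg hnc]
    rw [h2, zero_mul] at h1
    rw [← h1]
    apply Finset.sum_congr rfl
    intro χ _
    simp only [X]
    rw [irr_apply_one χ, Complex.conj_natCast]
    ring
  have hsq : ∑ χ, (d χ) ^ 2 = Nat.card G := by
    have h1 := sum_irr_mul_conj (G := G) 1 1
    have h2 : classIndicator (1 : G) 1 = 1 := by
      unfold classIndicator
      rw [if_pos (IsConj.refl 1)]
    have h3 : Nat.card (Subgroup.centralizer ({(1 : G)} : Set G)) = Nat.card G := by
      have : Subgroup.centralizer ({(1 : G)} : Set G) = ⊤ := by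
        rw [eq_top_iff]
        intro g _
        rw [Subgroup.mem_centralizer_singleton_iff]
        simp
      rw [this, Subgroup.card_top]
    rw [h2, one_mul, h3] at h1
    have h4 : ((∑ χ, (d χ) ^ 2 : ℕ) : ℂ) = (Nat.card G : ℂ) := by
      rw [← h1]
      push_cast
      apply Finset.sum_congr rfl
      intro χ _
      rw [irr_apply_one χ, Complex.conj_natCast]
      ring
    exact_mod_cast h4
  have hC1 : Nat.card (Subgroup.centralizer ({x1} : Set G)) = 54 := by
    have h1 := classIndicator_mul_card x1 x1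
    have h2 : classIndicator x1 x1 = 1 := by
      unfold classIndicator
      rw [if_pos (IsConj.refl x1)]
    rw [h2, one_mul] at h1
    have h3 := h.card_conjugators ((1, 0, 0) : M3) (1, 0, 0) (by decide)
    rw [Data.param_e1, sig_fix_e1] at h3
    rw [h3] at h1
    exact_mod_cast h1
  have hC2 : Nat.card (Subgroup.centralizer ({x2} : Set G)) = 54 := by
    have h1 := classIndicator_mul_card x2 x2
    have h2 : classIndicator x2 x2 = 1 := by
      unfold classIndicator
      rw [if_pos (IsConj.refl x2)]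
    rw [h2, one_mul] at h1
    have h3 := h.card_conjugators ((0, 1, 0) : M3) (0, 1, 0) (by decide)
    rw [Data.param_e2, sig_fix_e2] at h3
    rw [h3] at h1
    exact_mod_cast h1
  have hcm : ∀ y : A3, y ≠ 1 →
      ((Nat.card G : ℕ) : ℂ) * ∑ χ, X χ (Multiplicative.ofAdd ((1, 0, 0) : M3)) *
        X χ (Multiplicative.ofAdd ((0, 1, 0) : M3)) * X χ y / (d χ : ℂ) =
      2916 * (if Multiplicative.toAdd y ∈ B3 then 1 else 0) := by
    intro y hy
    have h1 := class_mul_count x1 x2 (ph y)⁻¹
    rw [card_pairs_conj, hC1, hC2, inv_inv] at h1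
    have h2 : (ph y)⁻¹ = param x1 x2 x3 (-(Multiplicative.toAdd y)) := by
      rw [hph, h.param_neg]
    rw [h2, h.local_count _ (hne y hy)] at h1
    rw [Nat.card_eq_fintype_card]
    have e : ∑ χ : IrrCharacter G, X χ (Multiplicative.ofAdd ((1, 0, 0) : M3)) *
        X χ (Multiplicative.ofAdd ((0, 1, 0) : M3)) * X χ y / (d χ : ℂ) =
        ∑ χ : IrrCharacter G, (χ : G → ℂ) x1 * (χ : G → ℂ) x2 * (χ : G → ℂ) (ph y) /
          (χ : G → ℂ) 1 := by
      apply Finset.sum_congr rfl
      intro χ _
      simp only [X, d]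
      rw [hph, hph, toAdd_ofAdd, toAdd_ofAdd, Data.param_e1, Data.param_e2, irr_apply_one χ]
    rw [e, ← h1]
    push_cast
    split_ifs <;> ring
  have hcore := core X (Nat.card G) d hnat hd hX1 horth horth1 hsq hcm
  have hdvd : 108 ∣ Nat.card G := by
    rw [← h.card_H]
    exact Subgroup.card_subgroup_dvd_card H
  have hpos : 0 < Nat.card G := Nat.card_pos
  obtain ⟨k, hk⟩ := hdvd
  rcases hcore with h1 | h1 <;> omega

end Cfsg.Agent.Lib.Helper6.S3701
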