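import Mathlib
import Cfsg.Agent.Lib.Helper6.S3701.LocalA

/-!
helper6: S3701, part 11: the structure `Data` from the hypotheses of the statement.
-/

set_option autoImplicit false

namespace Cfsg.Agent.Lib.Helper6.S3701

variable {G : Type*} [Group G]

/-- the five generators of the model group in `Sym(9)` -/
abbrev q1 : Equiv.Perm (Fin 9) := Equiv.swap (0 : Fin 9) 1 * Equiv.swap 1 2
abbrev q2 : Equiv.Perm (Fin 9) := Equiv.swap (3 : Fin 9) 4 * Equiv.swap 4 5
abbrev q3 : Equiv.Perm (Fin 9) := Equiv.swap (6 : Fin 9) 7 * Equiv.swap 7 8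
abbrev q4 : Equiv.Perm (Fin 9) := Equiv.swap (0 : Fin 9) 1 * Equiv.swap 3 4
abbrev q5 : Equiv.Perm (Fin 9) := Equiv.swap (0 : Fin 9) 1 * Equiv.swap 6 7

theorem q_rels :
    q1 ^ 3 = 1 ∧ q2 ^ 3 = 1 ∧ q3 ^ 3 = 1 ∧ q1 ≠ 1 ∧ q2 ≠ 1 ∧
    q1 * q2 = q2 * q1 ∧ q1 * q3 = q3 * q1 ∧ q2 * q3 = q3 * q2 ∧
    q4 * q4 = 1 ∧ q5 * q5 = 1 ∧ q4 * q5 = q5 * q4 ∧
    q4 * q1 * q4⁻¹ = q1⁻¹ ∧ q4 * q2 * q4⁻¹ = q2⁻¹ ∧ q4 * q3 * q4⁻¹ = q3 ∧
    q5 * q1 * q5⁻¹ = q1⁻¹ ∧ q5 * q2 * q5⁻¹ = q2 ∧ q5 * q3 * q5⁻¹ = q3⁻¹ := by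
  decide

theorem exists_data (H : Subgroup G)
    (hH : Nonempty (↥H ≃* ↥(Subgroup.closure ({q1, q2, q3, q4, q5} : Set (Equiv.Perm (Fin 9))))))
    (T : Subgroup G) (hTH : T ≤ H) (hT : Nat.card T = 27)
    (hN : Subgroup.normalizer (T : Set G) = H)
    (hC : ∀ t ∈ T, t ≠ 1 → Subgroup.centralizer ({t} : Set G) ≤ H) :
    ∃ x1 x2 x3 a b : G, Data H T x1 x2 x3 a b := by
  obtain ⟨e⟩ := hH
  set S : Set (Equiv.Perm (Fin 9)) := {q1, q2, q3, q4, q5} with hS
  let K := Subgroup.closure S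
  let f : K →* G := H.subtype.comp e.symm.toMonoidHom
  have hfH : ∀ k : K, f k ∈ H := fun k => (e.symm k).2
  have hfinj : Function.Injective f := by
    intro u v huv
    have : e.symm u = e.symm v := Subtype.ext huv
    exact e.symm.injective this
  have hm1 : q1 ∈ K := Subgroup.subset_closure (by simp [hS])
  have hm2 : q2 ∈ K := Subgroup.subset_closure (by simp [hS])
  have hm3 : q3 ∈ K := Subgroup.subset_closure (by simp [hS])
  have hm4 : q4 ∈ K := Subgroup.subset_closure (by simp [hS])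
  have hm5 : q5 ∈ K := Subgroup.subset_closure (by simp [hS])
  let k1 : K := ⟨q1, hm1⟩
  let k2 : K := ⟨q2, hm2⟩
  let k3 : K := ⟨q3, hm3⟩
  let k4 : K := ⟨q4, hm4⟩
  let k5 : K := ⟨q5, hm5⟩
  obtain ⟨r1, r2, r3, n1, n2, c12, c13, c23, a2, b2, ab, ax1, ax2, ax3, bx1, bx2, bx3⟩ := q_rels
  have rel : ∀ u v : K, (u : Equiv.Perm (Fin 9)) = v → f u = f v :=
    fun u v huv => by rw [Subtype.ext huv]
  refine ⟨f k1, f k2, f k3, f k4, f k5, ?_⟩
  refine
    { x1H := hfH _, x2H := hfH _, x3H := hfH _, aH := hfH _, bH := hfH _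
      x1c := ?_, x2c := ?_, x3c := ?_, x1ne := ?_, x2ne := ?_
      c12 := ?_, c13 := ?_, c23 := ?_, a2 := ?_, b2 := ?_, ab := ?_
      ax1 := ?_, ax2 := ?_, ax3 := ?_, bx1 := ?_, bx2 := ?_, bx3 := ?_
      gen := ?_, TH := hTH, cardT := hT, norm := hN, cent := hC }
  · rw [← map_pow, rel (k1 ^ 3) 1 (by simpa [k1] using r1), map_one]
  · rw [← map_pow, rel (k2 ^ 3) 1 (by simpa [k2] using r2), map_one]
  · rw [← map_pow, rel (k3 ^ 3) 1 (by simpa [k3] using r3), map_one]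
  · intro h
    rw [← map_one f] at h
    have := congrArg Subtype.val (hfinj h)
    exact n1 this
  · intro h
    rw [← map_one f] at h
    have := congrArg Subtype.val (hfinj h)
    exact n2 this
  · rw [← map_mul, ← map_mul]; exact rel _ _ (by simpa [k1, k2] using c12)
  · rw [← map_mul, ← map_mul]; exact rel _ _ (by simpa [k1, k3] using c13)
  · rw [← map_mul, ← map_mul]; exact rel _ _ (by simpa [k2, k3] using c23)
  · rw [← map_mul, rel (k4 * k4) 1 (by simpa [k4] using a2), map_one]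
  · rw [← map_mul, rel (k5 * k5) 1 (by simpa [k5] using b2), map_one]
  · rw [← map_mul, ← map_mul]; exact rel _ _ (by simpa [k4, k5] using ab)
  · rw [← map_inv, ← map_inv, ← map_mul, ← map_mul]
    exact rel _ _ (by simpa [k1, k4] using ax1)
  · rw [← map_inv, ← map_inv, ← map_mul, ← map_mul]
    exact rel _ _ (by simpa [k2, k4] using ax2)
  · rw [← map_inv, ← map_mul, ← map_mul]
    exact rel _ _ (by simpa [k3, k4] using ax3)
  · rw [← map_inv, ← map_inv, ← map_mul, ← map_mul]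
    exact rel _ _ (by simpa [k1, k5] using bx1)
  · rw [← map_inv, ← map_mul, ← map_mul]
    exact rel _ _ (by simpa [k2, k5] using bx2)
  · rw [← map_inv, ← map_inv, ← map_mul, ← map_mul]
    exact rel _ _ (by simpa [k3, k5] using bx3)
  · -- generation
    intro g hg
    have key : ∀ (σ : Equiv.Perm (Fin 9)) (hσ : σ ∈ K),
        f ⟨σ, hσ⟩ ∈ Subgroup.closure ({f k1, f k2, f k3, f k4, f k5} : Set G) := by
      intro σ hσ
      induction hσ using Subgroup.closure_induction with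
      | mem x hx =>
        apply Subgroup.subset_closure
        simp only [hS, Set.mem_insert_iff, Set.mem_singleton_iff] at hx
        rcases hx with rfl | rfl | rfl | rfl | rfl
        · exact Or.inl rfl
        · exact Or.inr (Or.inl rfl)
        · exact Or.inr (Or.inr (Or.inl rfl))
        · exact Or.inr (Or.inr (Or.inr (Or.inl rfl)))
        · exact Or.inr (Or.inr (Or.inr (Or.inr rfl)))
      | one =>
        have : (⟨1, Subgroup.one_mem _⟩ : K) = 1 := rfl
        rw [this, map_one]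
        exact Subgroup.one_mem _
      | mul x y hx hy ihx ihy =>
        have : (⟨x * y, Subgroup.mul_mem _ hx hy⟩ : K) = ⟨x, hx⟩ * ⟨y, hy⟩ := rfl
        rw [this, map_mul]
        exact Subgroup.mul_mem _ ihx ihy
      | inv x hx ihx =>
        have : (⟨x⁻¹, Subgroup.inv_mem _ hx⟩ : K) = (⟨x, hx⟩ : K)⁻¹ := rfl
        rw [this, map_inv]
        exact Subgroup.inv_mem _ ihx
    have hg' : g = f (e ⟨g, hg⟩) := by
      simp [f]
    rw [hg']
    exact key _ (e ⟨g, hg⟩).2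

end Cfsg.Agent.Lib.Helper6.S3701
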